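import Cfsg.Agent.KZ.L3.Mod
import Cfsg.Agent.GTwoFour.Tools

/-!
# KZ, `L₃^ε(q)` with `3 ∣ q - ε`: from the model to the abstract data (helper56)
-/

set_option autoImplicit false

namespace Cfsg.Agent.KZ.L3

open Cfsg Subgroup

/-- the `3`-elements -/
def Is3 {X : Type} [Group X] (x : X) : Prop := ∃ k : ℕ, x ^ 3 ^ k = 1

theorem Is3.mul {X : Type} [Group X] {x y : X} (hx : Is3 x) (hy : Is3 y) (h : Commute x y) : Is3 (x * y) := by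
  obtain ⟨k, hk⟩ := hx
  obtain ⟨l, hl⟩ := hy
  refine ⟨k + l, ?_⟩
  rw [h.mul_pow, pow_add, pow_mul, hk, one_pow, mul_comm (3 ^ k), pow_mul, hl, one_pow, one_mul]

theorem Is3.one {X : Type} [Group X] : Is3 (1 : X) := ⟨0, one_pow _⟩

theorem Is3.map {X X' : Type} [Group X] [Group X'] (f : X →* X') {x : X} (hx : Is3 x) : Is3 (f x) := by
  obtain ⟨k, hk⟩ := hx
  exact ⟨k, by rw [← map_pow, hk, map_one]⟩

theorem Is3.zpow {X : Type} [Group X] {x : X} (hx : Is3 x) (e : ℤ) : Is3 (x ^ e) := by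
  obtain ⟨k, hk⟩ := hx
  exact ⟨k, by rw [← zpow_natCast, ← zpow_mul, mul_comm, zpow_mul, zpow_natCast, hk, one_zpow]⟩

theorem Is3.inv {X : Type} [Group X] {x : X} (hx : Is3 x) : Is3 x⁻¹ := by simpa using hx.zpow (-1)

theorem Is3.eq_one {X : Type} [Group X] {x : X} (hx : Is3 x) (h : ¬ 3 ∣ orderOf x) : x = 1 := by
  obtain ⟨k, hk⟩ := hx
  exact orderOf_eq_one_iff.1 ((cop3 h k).symm.eq_one_of_dvd (orderOf_dvd_of_pow_eq_one hk))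

namespace Md

variable {Y μ S : Type} [Group Y] [CommGroup μ] [Group S] (m : Md Y μ S)

/-- the shift as a homomorphism -/
def shH : (Fin 3 → μ) →* (Fin 3 → μ) where
  toFun := sh
  map_one' := rfl
  map_mul' _ _ := rfl

theorem is3_sh {t : Fin 3 → μ} (h : Is3 t) (k : ℕ) : Is3 (sh^[k] t) := by
  induction k with
  | zero => exact h
  | succ k ih => rw [Function.iterate_succ_apply']; exact ih.map shH

theorem is3_vec {a b c : μ} (ha : Is3 a) (hb : Is3 b) (hc : Is3 c) : Is3 ![a, b, c] := by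
  obtain ⟨i, hi⟩ := ha
  obtain ⟨j, hj⟩ := hb
  obtain ⟨k, hk⟩ := hc
  refine ⟨i + j + k, funext fun l => ?_⟩
  fin_cases l
  · change a ^ _ = 1
    rw [add_assoc, pow_add, pow_mul, hi, one_pow]
  · change b ^ _ = 1
    rw [add_comm i, add_assoc, pow_add, pow_mul, hj, one_pow]
  · change c ^ _ = 1
    rw [add_comm, pow_add, pow_mul, hk, one_pow]

/-- the image of the permutation matrix -/
def s : ↥m.Gam := m.c m.σ

/-- the image of a diagonal matrix -/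
def cD : (Fin 3 → μ) →* ↥m.Gam := m.c.comp m.D

theorem cD_eq (t : Fin 3 → μ) : m.c (m.D t) = m.cD t := rfl

theorem s3 : m.s ^ 3 = 1 := by rw [s, ← map_pow, m.σ3, map_one]

theorem s_pow_cD (k : ℕ) (t : Fin 3 → μ) : m.s ^ k * m.cD t = m.cD (sh^[k] t) * m.s ^ k := by
  rw [s, ← cD_eq, ← cD_eq, ← map_pow, ← map_mul, ← map_mul, σD_pow]

theorem Ph_s {τ : ↥m.Gam} (h : τ ∈ m.Ph) : Commute τ m.s := m.Ph_σ h

theorem Ph_cD {τ : ↥m.Gam} {e : ℤ} (he : ∀ t, (τ : MulAut Y) (m.D t) = m.D (t ^ e)) (t : Fin 3 → μ) :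
    τ * m.cD t = m.cD (t ^ e) * τ := by rw [← cD_eq, mul_c, he]; rfl

theorem move {τ : ↥m.Gam} {e : ℤ} (he : ∀ t, (τ : MulAut Y) (m.D t) = m.D (t ^ e)) (k : ℕ) (t : Fin 3 → μ) :
    m.s ^ k * τ * m.cD t = m.cD (sh^[k] (t ^ e)) * (m.s ^ k * τ) := by
  rw [mul_assoc, m.Ph_cD he, ← mul_assoc, s_pow_cD, mul_assoc]

theorem move3 {τ : ↥m.Gam} (h : τ ∈ m.Ph) (k : ℕ) {t : Fin 3 → μ} (ht : Is3 t) :
    ∃ t', Is3 t' ∧ m.s ^ k * τ * m.cD t = m.cD t' * (m.s ^ k * τ) := by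
  obtain ⟨e, he, -⟩ := m.Ph_pw h
  exact ⟨_, is3_sh (ht.zpow e) k, m.move he k t⟩

/-- the monomial Sylow subgroup -/
def B : Subgroup ↥m.Gam where
  carrier := {β | ∃ t, Is3 t ∧ ∃ k : ℕ, ∃ τ ∈ m.Ph, Is3 τ ∧ β = m.cD t * (m.s ^ k * τ)}
  one_mem' := ⟨1, Is3.one, 0, 1, one_mem _, Is3.one, by simp⟩
  mul_mem' := by
    rintro _ _ ⟨t, h1, k, τ, h2, h3, rfl⟩ ⟨t', h4, k', τ', h5, h6, rfl⟩
    obtain ⟨t'', h7, h8⟩ := m.move3 h2 k h4
    refine ⟨t * t'', h1.mul h7 (Commute.all _ _), k + k', τ * τ', mul_mem h2 h5, h3.mul h6 (m.Ph_comm h2 h5), ?_⟩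
    rw [mul_assoc, ← mul_assoc (m.s ^ k * τ), h8, map_mul, pow_add, mul_assoc, mul_assoc, mul_assoc, mul_assoc,
      ← mul_assoc τ, ((m.Ph_s h2).pow_right k').eq, mul_assoc]
  inv_mem' := by
    rintro _ ⟨t, h1, k, τ, h2, h3, rfl⟩
    obtain ⟨t', h4, h5⟩ := m.move3 (inv_mem h2) (2 * k) h1.inv
    refine ⟨t', h4, 2 * k, τ⁻¹, inv_mem h2, h3.inv, ?_⟩
    rw [← h5, mul_inv_rev, map_inv, mul_left_inj, mul_inv_rev, ← ((m.Ph_s (inv_mem h2)).pow_right _).eq, mul_right_inj,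
      inv_eq_iff_mul_eq_one, ← pow_add, show k + 2 * k = 3 * k by ring, pow_mul, s3, one_pow]

theorem cD_mem_B {t : Fin 3 → μ} (h : Is3 t) : m.cD t ∈ m.B := ⟨t, h, 0, 1, one_mem _, Is3.one, by simp⟩

theorem s_mem_B : m.s ∈ m.B := ⟨1, Is3.one, 1, 1, one_mem _, Is3.one, by simp⟩

theorem Ph_mem_B {τ : ↥m.Gam} (h : τ ∈ m.Ph) (h' : Is3 τ) : τ ∈ m.B := ⟨1, Is3.one, 0, τ, h, h', by simp⟩

theorem B_pgroup : IsPGroup 3 ↥m.B := by
  rintro ⟨_, t, h1, k, τ, h2, h3, rfl⟩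
  have h4 : ∀ n : ℕ, ∃ t', Is3 t' ∧ (m.cD t * (m.s ^ k * τ)) ^ n = m.cD t' * (m.s ^ k * τ) ^ n := by
    intro n
    induction n with
    | zero => exact ⟨1, Is3.one, by simp⟩
    | succ n ih =>
      obtain ⟨t', h5, h6⟩ := ih
      obtain ⟨t'', h7, h8⟩ := m.move3 h2 k h5
      refine ⟨t * t'', h1.mul h7 (Commute.all _ _), ?_⟩
      rw [pow_succ', h6, mul_assoc, ← mul_assoc (m.s ^ k * τ), h8, map_mul, pow_succ']
      simp only [mul_assoc]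
  obtain ⟨j, hj⟩ := Is3.mul (x := m.s ^ k) ⟨1, by rw [pow_one, pow_right_comm, s3, one_pow]⟩ h3
    ((m.Ph_s h2).pow_right k).symm
  obtain ⟨t', ⟨i, hi⟩, h5⟩ := h4 (3 ^ j)
  refine ⟨j + i, Subtype.ext ?_⟩
  change (m.cD t * (m.s ^ k * τ)) ^ 3 ^ (j + i) = 1
  rw [pow_add, pow_mul, h5, hj, mul_one, ← map_pow, hi, map_one]

theorem is3_ω : Is3 m.ω := ⟨1, m.ω3⟩

theorem is3_d0 : Is3 m.d0 := ⟨1, m.d0_3⟩

theorem is3_δ0 : Is3 m.δ0 := is3_vec Is3.one Is3.one m.ζ3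

theorem pow_D {τ : ↥m.Gam} {e : ℤ} (he : ∀ t, (τ : MulAut Y) (m.D t) = m.D (t ^ e)) (n : ℕ) (t : Fin 3 → μ) :
    ((τ ^ n : ↥m.Gam) : MulAut Y) (m.D t) = m.D (t ^ e ^ n) := by
  induction n generalizing t with
  | zero => simp
  | succ n ih =>
    rw [pow_succ, pow_succ', zpow_mul, ← ih, ← he]
    rfl

theorem dvd_of_is3 {τ : ↥m.Gam} {e : ℤ} (he : ∀ t, (τ : MulAut Y) (m.D t) = m.D (t ^ e)) (h : Is3 τ) : 3 ∣ e - 1 := by
  obtain ⟨k, hk⟩ := h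
  have h1 := m.pow_D he (3 ^ k) fun _ => m.ω
  rw [hk] at h1
  have h2 : m.ω = m.ω ^ e ^ 3 ^ k := congrFun (m.D_inj h1) 0
  have h3 : ((orderOf m.ω : ℕ) : ℤ) ∣ e ^ 3 ^ k - 1 :=
    orderOf_dvd_iff_zpow_eq_one.2 (by rw [zpow_sub, ← h2, zpow_one, mul_inv_cancel])
  rw [ω_order] at h3
  have : Fact (Nat.Prime 3) := ⟨Nat.prime_three⟩
  have h4 := (ZMod.intCast_zmod_eq_zero_iff_dvd _ 3).2 h3
  push_cast at h4
  rw [ZMod.pow_card_pow] at h4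
  exact (ZMod.intCast_zmod_eq_zero_iff_dvd (e - 1) 3).1 (by push_cast; exact h4)

theorem zpow_eq_of_dvd {X : Type} [Group X] {x : X} (h : x ^ 3 = 1) {e : ℤ} (he : 3 ∣ e - 1) : x ^ e = x := by
  obtain ⟨f, hf⟩ := he
  rw [show e = 3 * f + 1 by omega, zpow_add, zpow_mul, zpow_one, show x ^ (3 : ℤ) = 1 from (zpow_natCast x 3).trans h,
    one_zpow, one_mul]

theorem plus_iff {τ : ↥m.Gam} {e : ℤ} (he : ∀ t, (τ : MulAut Y) (m.D t) = m.D (t ^ e)) :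
    τ * m.cD m.δ0 * τ⁻¹ * (m.cD m.δ0)⁻¹ ∈ m.In ↔ 3 ∣ e - 1 := by
  rw [m.Ph_cD he, mul_inv_cancel_right, ← map_inv, ← map_mul, ← cD_eq, c_mem_In, map_mul, map_inv, map_zpow, map_mul,
    map_inv, map_zpow, det_δ, ← zpow_sub_one]
  refine ⟨fun ⟨v, hv⟩ => m.dvd_of_cube hv.symm, fun ⟨f, hf⟩ => ⟨m.ζ ^ f, ?_⟩⟩
  rw [hf, mul_comm, zpow_mul]
  exact zpow_natCast _ 3

theorem sh_δ {k : ℕ} {z : μ} (h : sh^[k] m.δ0 = (fun _ => z) * m.δ0) : 3 ∣ k := by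
  have h3 : ∀ t : Fin 3 → μ, sh^[3] t = t := fun t => funext fun i => by fin_cases i <;> rfl
  have h4 : ∀ j, sh^[3 * j] m.δ0 = m.δ0 := fun j => by
    rw [Function.iterate_mul]
    exact Function.iterate_fixed (h3 _) j
  obtain ⟨j, rfl | rfl | rfl⟩ : ∃ j, k = 3 * j ∨ k = 1 + 3 * j ∨ k = 2 + 3 * j := ⟨k / 3, by omega⟩
  · exact ⟨j, rfl⟩
  · rw [Function.iterate_add_apply, h4] at h
    have a0 : 1 = z * 1 := congrFun h 0
    have a1 : m.ζ = z * 1 := congrFun h 1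
    exact absurd (a1.trans a0.symm) m.ζ_ne
  · rw [Function.iterate_add_apply, h4] at h
    have a0 : m.ζ = z * 1 := congrFun h 0
    have a1 : 1 = z * 1 := congrFun h 1
    exact absurd (a0.trans a1.symm) m.ζ_ne

theorem cD_of_s {t : Fin 3 → μ} (h : m.s * m.cD t = m.cD t * m.s) : ∃ j : ℕ, m.cD t = m.cD m.d0 ^ j := by
  obtain ⟨z, hz⟩ := m.comm_cc.1 h
  obtain ⟨j, -, h2⟩ := m.D_of_σ hz
  exact ⟨j, by rw [← cD_eq, h2, map_mul, c_sc, one_mul, map_pow]; rfl⟩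

theorem mon_c {g : Y} (h : m.c g * m.cD m.d0 = m.cD m.d0 * m.c g) : ∃ t, ∃ k : ℕ, m.c g = m.cD t * m.s ^ k := by
  obtain ⟨z, hz⟩ := m.comm_cc.1 h
  obtain ⟨t, k, rfl⟩ := m.mon g z hz
  exact ⟨t, k, by rw [map_mul, map_pow]; rfl⟩

theorem nG : m.c.range.Normal := ⟨by
  rintro _ ⟨g, rfl⟩ α
  exact ⟨_, by rw [mul_c, mul_inv_cancel_right]⟩⟩

theorem cD_d0_ne : m.cD m.d0 ≠ 1 := fun h => by
  obtain ⟨z, hz⟩ := m.c_eq_one.1 h
  have h1 := m.D_inj hz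
  exact m.ω_ne ((congrFun h1 1).trans (congrFun h1 0).symm)

theorem cD_d0_3 : m.cD m.d0 ^ 3 = 1 := by rw [← map_pow, d0_3, map_one]

theorem csd {g : Y} (h : m.c g * m.s = m.s * m.c g) (h' : m.c g * m.cD m.d0 = m.cD m.d0 * m.c g) :
    ∃ j k : ℕ, m.c g = m.cD m.d0 ^ j * m.s ^ k := by
  obtain ⟨t, k, e⟩ := m.mon_c h'
  rw [e, mul_assoc, ← pow_succ, pow_succ', ← mul_assoc, ← mul_assoc, mul_left_inj] at h
  obtain ⟨j, hj⟩ := m.cD_of_s h.symm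
  exact ⟨j, k, by rw [e, hj]⟩

variable [Finite Y]

theorem fin : Finite ↥m.Gam := inferInstance

include m in
theorem finμ : Finite μ := Finite.of_injective _ m.sc_inj

theorem B_max {P : Subgroup ↥m.Gam} (hP : IsPGroup 3 ↥P) (h : m.B ≤ P) : P ≤ m.B := by
  have : Fact (Nat.Prime 3) := ⟨Nat.prime_three⟩
  have := m.nG
  have := m.finμ
  have hd : m.cD m.d0 ∈ P := h (m.cD_mem_B m.is3_d0)
  obtain ⟨z, ⟨x, hx⟩, h2, h3⟩ := GTwoFour.Tools.exists_mem_center_of_normal hP (m.c.range.subgroupOf P) fun h1 => by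
    have h4 : (⟨_, hd⟩ : ↥P) ∈ m.c.range.subgroupOf P := ⟨_, rfl⟩
    rw [h1] at h4
    exact m.cD_d0_ne (congrArg Subtype.val (mem_bot.1 h4))
  have h4 : ∀ β ∈ P, β * m.c x = m.c x * β := fun β hβ => by
    rw [hx]
    exact congrArg Subtype.val (mem_center_iff.1 h2 ⟨β, hβ⟩)
  obtain ⟨j, k, h5⟩ := m.csd (h4 _ (h m.s_mem_B)).symm (h4 _ hd).symm
  have h6 : 3 ∣ k := by
    have h7 := h4 _ (h (m.cD_mem_B m.is3_δ0))
    rw [h5, mul_assoc, s_pow_cD, ← mul_assoc, ← mul_assoc, mul_left_inj, ← map_pow, ← map_mul, ← map_mul, mul_comm,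
      map_mul, map_mul, mul_right_inj] at h7
    obtain ⟨w, hw⟩ := m.c_eq.1 h7.symm
    rw [← sc_eq, ← map_mul] at hw
    exact m.sh_δ (m.D_inj hw)
  obtain ⟨i, rfl⟩ := h6
  rw [pow_mul, s3, one_pow, mul_one] at h5
  have h7 : ¬ 3 ∣ j := by
    rintro ⟨l, rfl⟩
    rw [pow_mul, cD_d0_3, one_pow] at h5
    exact h3 (Subtype.ext (hx.symm.trans h5))
  have h8 : ∀ β ∈ P, β * m.cD m.d0 = m.cD m.d0 * β := fun β hβ =>
    mem_centralizer_singleton_iff.1 (mem_centralizer_singleton_iff.2 (mem_centralizer_singleton_iff.1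
      (mem_of_coprime (H := centralizer {β}) (m := 3) (n := j) (by rw [cD_d0_3]; exact one_mem _)
        (mem_centralizer_singleton_iff.2 (by rw [← h5]; exact (h4 β hβ).symm)) (cop3 h7 1))).symm)
  intro β hβ
  obtain ⟨g, τ, hτ, rfl⟩ := m.dec β
  have h9 : Is3 τ := by
    obtain ⟨k, hk⟩ := hP ⟨_, hβ⟩
    have h10 : (m.c g * τ) ^ 3 ^ k = 1 := congrArg Subtype.val hk
    have h11 : τ ^ 3 ^ k ∈ m.c.range := by
      have h12 := congrArg (QuotientGroup.mk' m.c.range) h10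
      rw [map_pow, map_mul, map_one, QuotientGroup.mk'_apply,
        (QuotientGroup.eq_one_iff (N := m.c.range) (m.c g)).2 ⟨g, rfl⟩, one_mul, ← map_pow] at h12
      exact (QuotientGroup.eq_one_iff _).1 h12
    obtain ⟨y, hy⟩ := h11
    exact ⟨k, m.eq_one_of_c (pow_mem hτ _) hy.symm⟩
  have h10 : m.c g ∈ P := (P.mul_mem_cancel_right (h (m.Ph_mem_B hτ h9))).1 hβ
  obtain ⟨t, k, h11⟩ := m.mon_c (h8 _ h10)
  obtain ⟨a, b, -, -, ha, hb, rfl⟩ := exists_parts t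
  have h12 : m.cD b ∈ P := by
    rw [h11, map_mul] at h10
    exact (P.mul_mem_cancel_left (h (m.cD_mem_B ha))).1 ((P.mul_mem_cancel_right (pow_mem (h m.s_mem_B) k)).1 h10)
  have h13 : m.cD b = 1 := by
    obtain ⟨l, hl⟩ := hP ⟨_, h12⟩
    exact Is3.eq_one ⟨l, congrArg Subtype.val hl⟩ fun h14 => hb (h14.trans (orderOf_map_dvd _ _))
  exact ⟨a, ha, k, τ, hτ, h9, by rw [h11, map_mul, h13, mul_one, mul_assoc]⟩

/-- the Sylow subgroup -/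
def P : Sylow 3 ↥m.Gam := ⟨m.B, m.B_pgroup, fun hQ hle => le_antisymm (m.B_max hQ hle) hle⟩

omit [Finite Y] in
theorem cenP {τ : ↥m.Gam} (hτ : τ ∈ m.Ph) (h3 : ¬ 3 ∣ orderOf τ)
    (h : τ * m.cD m.δ0 * τ⁻¹ * (m.cD m.δ0)⁻¹ ∈ m.In) {β : ↥m.Gam} (hβ : β ∈ m.B) : τ * β = β * τ := by
  obtain ⟨t, ⟨j, hj⟩, k, τ', h1, -, rfl⟩ := hβ
  obtain ⟨e, he, -⟩ := m.Ph_pw hτ
  have h4 : τ ∈ centralizer {m.cD t} := by
    refine mem_of_coprime (m := 3 ^ j) (n := orderOf τ) (mem_centralizer_singleton_iff.2 ?_)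
      (by rw [pow_orderOf_eq_one]; exact one_mem _) (cop3 h3 j)
    obtain ⟨f, hf⟩ := dvd_sub_pow_of_dvd_sub (p := 3) (by exact_mod_cast (m.plus_iff he).1 h) j
    rw [m.Ph_cD (m.pow_D he _), show e ^ 3 ^ j = (3 ^ j : ℕ) * (3 * f) + 1 by
      rw [one_pow] at hf; push_cast at hf ⊢; linear_combination hf, zpow_add, zpow_mul, zpow_natCast, hj, one_zpow,
      one_mul, zpow_one]
  exact ((show Commute τ (m.cD t) from mem_centralizer_singleton_iff.1 h4).mul_right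
    (((m.Ph_s hτ).pow_right k).mul_right (m.Ph_comm hτ h1))).eq

omit [Finite Y] in
theorem B_act {β : ↥m.Gam} (h : β ∈ m.B) : (∀ j : ℕ, (β : MulAut Y) (m.sc (m.ω ^ j)) = m.sc (m.ω ^ j)) ∧
    ∃ j : ℕ, (β : MulAut Y) (m.D m.d0) = m.sc (m.ω ^ j) * m.D m.d0 := by
  obtain ⟨t, -, k, τ, h1, h2, rfl⟩ := h
  obtain ⟨e, he, -⟩ := m.Ph_pw h1
  have h3 := m.dvd_of_is3 he h2
  have h4 : ∀ y, ((m.cD t * (m.s ^ k * τ) : ↥m.Gam) : MulAut Y) y =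
      m.D t * m.σ ^ k * (τ : MulAut Y) y * (m.D t * m.σ ^ k)⁻¹ := fun y => by
    rw [s, ← cD_eq, ← map_pow, ← mul_assoc, ← map_mul]
    rfl
  refine ⟨fun j => ?_, k, ?_⟩
  · rw [h4, ← sc_eq, he]
    change _ * m.sc ((m.ω ^ j) ^ e) * _ = m.sc (m.ω ^ j)
    rw [zpow_eq_of_dvd (by rw [pow_right_comm, m.ω3, one_pow]) h3, ← (m.sc_comm _ _).eq, mul_inv_cancel_right]
  · rw [h4, he, zpow_eq_of_dvd m.d0_3 h3, mul_assoc (m.D t), σd_pow, mul_inv_rev, ← mul_assoc, ← mul_assoc,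
      mul_inv_cancel_right, ← mul_assoc, ← (m.sc_comm _ _).eq, mul_assoc (m.sc _), (m.D_comm t _).eq, ← mul_assoc,
      mul_inv_cancel_right]

omit [Finite Y] in
theorem dcen {β : ↥m.Gam} (h : β ∈ m.B) : β * m.cD m.d0 = m.cD m.d0 * β := by
  obtain ⟨j, hj⟩ := (m.B_act h).2
  exact m.comm_c.2 ⟨_, hj⟩

/-- the stabiliser of `d` -/
def W : Subgroup ↥m.Gam := (MulAction.stabilizer (MulAut Y) (m.D m.d0)).subgroupOf m.Gam

omit [Finite Y] in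
theorem mem_W {β : ↥m.Gam} : β ∈ m.W ↔ (β : MulAut Y) (m.D m.d0) = m.D m.d0 := Iff.rfl

omit [Finite Y] in
theorem W_comm {a b : ↥m.Gam} (ha : a ∈ m.B) (hb : b ∈ m.B) : a * b * a⁻¹ * b⁻¹ ∈ m.W := by
  obtain ⟨a1, i, a2⟩ := m.B_act ha
  obtain ⟨b1, j, b2⟩ := m.B_act hb
  have hc := (m.B_act (mul_mem (mul_mem (mul_mem ha hb) (inv_mem ha)) (inv_mem hb))).1
  have h1 : ((a * b * a⁻¹ * b⁻¹ : ↥m.Gam) : MulAut Y) (((b * a : ↥m.Gam) : MulAut Y) (m.D m.d0)) =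
      ((a * b : ↥m.Gam) : MulAut Y) (m.D m.d0) := by
    rw [← MulAut.mul_apply, ← coe_mul]
    congr 2
    group
  have h2 : ((b * a : ↥m.Gam) : MulAut Y) (m.D m.d0) = m.sc (m.ω ^ (i + j)) * m.D m.d0 := by
    change (b : MulAut Y) ((a : MulAut Y) _) = _
    rw [a2, map_mul, b1, b2, pow_add, map_mul, mul_assoc]
  have h3 : ((a * b : ↥m.Gam) : MulAut Y) (m.D m.d0) = m.sc (m.ω ^ (i + j)) * m.D m.d0 := by
    change (a : MulAut Y) ((b : MulAut Y) _) = _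
    rw [b2, map_mul, a1, a2, add_comm, pow_add, map_mul, mul_assoc]
  rw [h2, h3, map_mul, hc, mul_right_inj] at h1
  exact h1

omit [Finite Y] in
theorem s_not_W : m.s ∉ m.W := fun h => by
  have h1 : m.σ * m.D m.d0 * m.σ⁻¹ = m.D m.d0 := h
  rw [σd, mul_inv_cancel_right, mul_eq_right] at h1
  exact m.ω_ne (m.sc_inj (h1.trans (map_one _).symm))

/-- scalar times cube -/
def R0 (μ : Type) [CommGroup μ] : Subgroup (Fin 3 → μ) :=
  (Pi.constMonoidHom (Fin 3) μ).range ⊔ (powMonoidHom 3).range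

theorem mem_R0 {t : Fin 3 → μ} : t ∈ R0 μ ↔ ∃ z : μ, ∃ v : Fin 3 → μ, (fun _ => z) * v ^ 3 = t := by
  rw [R0, mem_sup]
  exact ⟨fun ⟨_, ⟨z, h1⟩, _, ⟨v, h2⟩, h⟩ => ⟨z, v, by rw [← h, ← h1, ← h2]; rfl⟩,
    fun ⟨z, v, h⟩ => ⟨_, ⟨z, rfl⟩, _, ⟨v, rfl⟩, h⟩⟩

/-- the determinant is a cube -/
def T1 (t : Fin 3 → μ) : Prop := ∃ v, t 0 * t 1 * t 2 = v ^ 3

theorem T1.sh {t : Fin 3 → μ} (h : T1 t) : T1 (sh t) := by
  obtain ⟨v, hv⟩ := h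
  exact ⟨v, by rw [← hv]; change t 1 * t 2 * t 0 = _; rw [mul_comm, mul_assoc]⟩

theorem T1.R {t : Fin 3 → μ} (h : T1 t) : Md.sh t * t⁻¹ ∈ R0 μ := by
  obtain ⟨v, hv⟩ := h
  refine mem_R0.2 ⟨t 1 * (t 0)⁻¹, ![1, v * (t 1)⁻¹, t 0 * v⁻¹ * (v * (t 1)⁻¹) ^ 2 * t 1 ^ 2 * (v ^ 2)⁻¹], funext fun i => ?_⟩
  have h2 : t 2 = v ^ 3 * (t 0)⁻¹ * (t 1)⁻¹ := by
    rw [← hv]
    apply Additive.ofMul.injective
    simp only [ofMul_mul, ofMul_inv]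
    abel
  fin_cases i
  · simp [Md.sh]
  · change t 1 * (t 0)⁻¹ * (v * (t 1)⁻¹) ^ 3 = t 2 * (t 1)⁻¹
    rw [h2]
    apply Additive.ofMul.injective
    simp only [ofMul_mul, ofMul_inv, ofMul_pow]
    abel
  · change t 1 * (t 0)⁻¹ * (t 0 * v⁻¹ * (v * (t 1)⁻¹) ^ 2 * t 1 ^ 2 * (v ^ 2)⁻¹) ^ 3 = t 0 * (t 2)⁻¹
    rw [h2]
    apply Additive.ofMul.injective
    simp only [ofMul_mul, ofMul_inv, ofMul_pow]
    abel

theorem T1.iter {t : Fin 3 → μ} (h : T1 t) (k : ℕ) : T1 (Md.sh^[k] t) ∧ Md.sh^[k] t * t⁻¹ ∈ R0 μ := by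
  induction k with
  | zero => exact ⟨h, by simp⟩
  | succ k ih =>
    rw [Function.iterate_succ_apply']
    refine ⟨ih.1.sh, ?_⟩
    have h1 := mul_mem ih.1.R ih.2
    rwa [← mul_assoc, inv_mul_cancel_right] at h1

theorem T1.move {t : Fin 3 → μ} (h : T1 t) (k : ℕ) {e : ℤ} (he : 3 ∣ e - 1) : Md.sh^[k] (t ^ e) * t⁻¹ ∈ R0 μ := by
  obtain ⟨f, hf⟩ := he
  have h1 : T1 (t ^ e) := by
    obtain ⟨v, hv⟩ := h
    exact ⟨v ^ e, by rw [← zpow_natCast, ← zpow_mul, mul_comm e, zpow_mul, zpow_natCast, ← hv, mul_zpow, mul_zpow]; rfl⟩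
  have h2 : t ^ e * t⁻¹ ∈ R0 μ := mem_R0.2 ⟨1, t ^ f, by
    rw [← zpow_sub_one, hf, mul_comm 3, zpow_mul]
    exact (one_mul _).trans (zpow_natCast _ 3).symm⟩
  have h3 := mul_mem (h1.iter k).2 h2
  rwa [← mul_assoc, inv_mul_cancel_right] at h3

omit [Finite Y] in
theorem T1_of {t : Fin 3 → μ} {k : ℕ} {τ τ' y : ↥m.Gam} (hτ : τ ∈ m.Ph) (hτ' : τ' ∈ m.Ph) (hy : y ∈ m.In)
    (h : m.cD t * (m.s ^ k * τ) = y * τ') : T1 t := by
  obtain ⟨x, hx, rfl⟩ := hy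
  have h1 : τ' * τ⁻¹ = m.c (x⁻¹ * (m.D t * m.σ ^ k)) := by
    rw [map_mul, map_mul, map_inv, map_pow, eq_inv_mul_iff_mul_eq, ← mul_assoc, ← h, ← mul_assoc, mul_inv_cancel_right]
    rfl
  rw [m.eq_one_of_c (mul_mem hτ' (inv_mem hτ)) h1] at h1
  obtain ⟨z, hz⟩ := m.c_eq_one.1 h1.symm
  have h2 := congrArg m.det hz
  rw [map_mul, map_mul, map_inv, map_pow, show m.det x = 1 from hx, m.det_σ, m.det_D, det_sc, inv_one, one_mul, one_pow,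
    mul_one] at h2
  exact ⟨z, h2⟩

omit [Finite Y] in
theorem R_comm {a b : ↥m.Gam} (ha : a ∈ m.B) (hb : b ∈ m.B) (ha' : ∃ y ∈ m.In, ∃ τ ∈ m.Ph, a = y * τ)
    (hb' : ∃ y ∈ m.In, ∃ τ ∈ m.Ph, b = y * τ) : a * b * a⁻¹ * b⁻¹ ∈ (R0 μ).map m.cD := by
  obtain ⟨t, -, k, τ, h1, h2, rfl⟩ := ha
  obtain ⟨t', -, k', τ', h3, h4, rfl⟩ := hb
  obtain ⟨y, y1, ρ, y2, y3⟩ := ha'
  obtain ⟨y', y4, ρ', y5, y6⟩ := hb'
  obtain ⟨e, he, -⟩ := m.Ph_pw h1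
  obtain ⟨e', he', -⟩ := m.Ph_pw h3
  have r1 := (m.T1_of h3 y5 y4 y6).move k (m.dvd_of_is3 he h2)
  have r2 := (m.T1_of h1 y2 y1 y3).move k' (m.dvd_of_is3 he' h4)
  refine ⟨_, mul_mem r1 (inv_mem r2), ?_⟩
  have hc : Commute (m.s ^ k * τ) (m.s ^ k' * τ') :=
    ((Commute.pow_pow_self _ _ _).mul_right ((m.Ph_s h3).pow_right k).symm).mul_left
      (((m.Ph_s h1).pow_right k').mul_right (m.Ph_comm h1 h3))
  have e1 : m.cD t * (m.s ^ k * τ) * (m.cD t' * (m.s ^ k' * τ')) =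
      m.cD (t * sh^[k] (t' ^ e)) * (m.s ^ k * τ * (m.s ^ k' * τ')) := by
    rw [mul_assoc, ← mul_assoc (m.s ^ k * τ), m.move he, map_mul]
    simp only [mul_assoc]
  have e2 : m.cD t' * (m.s ^ k' * τ') * (m.cD t * (m.s ^ k * τ)) =
      m.cD (t' * sh^[k'] (t ^ e')) * (m.s ^ k * τ * (m.s ^ k' * τ')) := by
    rw [mul_assoc, ← mul_assoc (m.s ^ k' * τ'), m.move he', map_mul, hc.eq]
    simp only [mul_assoc]
  rw [mul_assoc (_ * _) _⁻¹, ← mul_inv_rev, e1, e2, mul_inv_rev (m.cD _), ← mul_assoc (m.cD _ * _), mul_inv_cancel_right,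
    ← map_inv, ← map_mul]
  congr 1
  apply Additive.ofMul.injective
  simp only [ofMul_mul, ofMul_inv]
  abel

omit [Finite Y] in
theorem t_not_R : m.cD ![m.ζ⁻¹, m.ζ, 1] ∉ (R0 μ).map m.cD := by
  rintro ⟨t, ht, h⟩
  obtain ⟨z, v, rfl⟩ := mem_R0.1 ht
  obtain ⟨w, hw⟩ := m.c_eq.1 h
  rw [← sc_eq, ← map_mul] at hw
  have h1 := m.D_inj hw
  have a1 : z * v 1 ^ 3 = w * m.ζ := congrFun h1 1
  have a2 : z * v 2 ^ 3 = w * 1 := congrFun h1 2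
  refine m.ζ_nc (v 1 * (v 2)⁻¹) ?_
  rw [mul_one] at a2
  rw [← a2, mul_assoc, mul_right_inj] at a1
  rw [mul_pow, a1, inv_pow, mul_inv_cancel_comm]

/-- the element with a small centraliser -/
def x : Y := m.σ * m.D m.δ0

omit [Finite Y] in
theorem x3 : m.x ^ 3 = m.sc m.ζ := by
  have h : ∀ (t : Fin 3 → μ) (k : ℕ), m.x * (m.D t * m.σ ^ k) = m.D (sh (m.δ0 * t)) * m.σ ^ (k + 1) := fun t k => by
    rw [x, mul_assoc, ← mul_assoc (m.D _), ← map_mul, ← mul_assoc, σD', mul_assoc, pow_succ']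
  have h1 : m.x ^ 3 = m.x * (m.x * (m.x * (m.D 1 * m.σ ^ 0))) := by rw [pow_succ', sq]; simp
  rw [h1, h, h, h, m.σ3, mul_one, ← sc_eq]
  congr 1
  funext i
  fin_cases i <;> simp [sh, δ0]

omit [Finite Y] in
theorem det_x : m.det m.x = m.ζ := by rw [x, map_mul, m.det_σ, det_δ, one_mul]

omit [Finite Y] in
theorem xd (i : ℕ) : m.x * m.D m.d0 ^ i = m.sc (m.ω ^ i) * m.D m.d0 ^ i * m.x := by
  induction i with
  | zero => simp
  | succ i ih =>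
    have h : m.x * m.D m.d0 = m.sc m.ω * m.D m.d0 * m.x := by
      rw [x, mul_assoc, (m.D_comm _ _).eq, ← mul_assoc, σd, mul_assoc]
    rw [pow_succ, ← mul_assoc, ih, mul_assoc, h, pow_succ, map_mul, ← mul_assoc, ← mul_assoc, mul_assoc (m.sc _) _ (m.sc _),
      ← (m.sc_comm m.ω _).eq]
    simp only [mul_assoc]

omit [Finite Y] in
theorem step {g : Y} (h : g * m.x = m.x * g) (h' : m.c g ^ 3 ∈ zpowers (m.c m.x)) : m.c g ∈ zpowers (m.c m.x) := by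
  obtain ⟨j, hj⟩ := mem_zpowers_iff.1 h'
  rw [← map_zpow, ← map_pow, eq_comm, c_eq] at hj
  obtain ⟨z, hz⟩ := hj
  have h1 := congrArg m.det hz
  rw [map_pow, map_mul, map_zpow, det_sc, det_x] at h1
  obtain ⟨i, rfl⟩ := m.dvd_of_cube (v := m.det g * z⁻¹) (i := j) (by rw [mul_pow, h1, inv_pow, mul_inv_cancel_comm])
  rw [zpow_mul, show m.x ^ (3 : ℤ) = m.sc m.ζ from (zpow_natCast _ 3).trans m.x3, ← map_zpow, ← map_mul] at hz
  obtain ⟨w, k, hk⟩ := m.cx g _ h hz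
  rw [hk, map_mul, sc_eq, c_sc, one_mul, map_pow]
  exact pow_mem (mem_zpowers _) k

theorem smallC : Spor.SmallC ↥m.c.range := by
  have : Fact (Nat.Prime 3) := ⟨Nat.prime_three⟩
  have hx3 : m.c m.x ^ 3 = 1 := by rw [← map_pow, x3, c_sc]
  refine ⟨⟨m.c m.x, _, rfl⟩, ?_, fun h => ?_⟩
  · obtain ⟨k, -, hk⟩ := (Nat.dvd_prime_pow Nat.prime_three (m := 1)).1
      (orderOf_dvd_of_pow_eq_one (x := (⟨m.c m.x, _, rfl⟩ : ↥m.c.range)) (n := 3 ^ 1) (Subtype.ext hx3))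
    exact ⟨k, hk⟩
  · let Z : Subgroup ↥m.Gam := (centralizer {(⟨m.c m.x, _, rfl⟩ : ↥m.c.range)}).map m.c.range.subtype
    let C0 : Subgroup ↥m.Gam := (centralizer {m.x}).map m.c
    rw [← card_map_of_injective m.c.range.subtype_injective] at h
    change 27 ∣ Nat.card Z at h
    have h1 : C0 ≤ Z := by
      rintro _ ⟨g, hg, rfl⟩
      refine ⟨⟨_, g, rfl⟩, mem_centralizer_singleton_iff.2 (Subtype.ext ?_), rfl⟩
      change m.c g * m.c m.x = m.c m.x * m.c g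
      rw [← map_mul, ← map_mul, mem_centralizer_singleton_iff.1 hg]
    have h2 : ∀ i : ℕ, m.cD m.d0 ^ i ∈ Z := fun i => by
      refine ⟨⟨_, m.D m.d0 ^ i, rfl⟩, mem_centralizer_singleton_iff.2 (Subtype.ext ?_), map_pow m.c _ _⟩
      exact (m.comm_cc.2 ⟨_, m.xd i⟩).symm
    have h3 : C0.relIndex Z ≤ 3 := by
      have h4 : Function.Surjective fun i : Fin 3 =>
          (QuotientGroup.mk ⟨_, h2 i⟩ : ↥Z ⧸ C0.subgroupOf Z) := by
        intro y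
        obtain ⟨⟨_, ⟨_, g, rfl⟩, hg, rfl⟩, rfl⟩ := QuotientGroup.mk_surjective y
        have h5 : m.c m.x * m.c g = m.c g * m.c m.x :=
          (congrArg Subtype.val (mem_centralizer_singleton_iff.1 hg)).symm
        obtain ⟨z, hz⟩ := m.comm_cc.1 h5
        obtain ⟨j, rfl⟩ := m.cube z (by
          have h6 := congrArg m.det hz
          rw [map_mul, map_mul, map_mul, det_sc, mul_comm, mul_left_inj, right_eq_mul] at h6
          exact h6)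
        refine ⟨⟨j % 3, Nat.mod_lt _ (by norm_num)⟩, QuotientGroup.eq.2 ⟨(m.D m.d0 ^ j)⁻¹ * g, ?_, ?_⟩⟩
        · rw [SetLike.mem_coe, mem_centralizer_singleton_iff, mul_assoc, inv_mul_eq_iff_eq_mul, ← mul_assoc, ← mul_assoc,
            ← mul_right_inj (m.sc (m.ω ^ j)), ← mul_assoc, ← hz, ← mul_assoc, ← mul_assoc, ← mul_assoc, ← xd,
            mul_inv_cancel_right]
        · change m.c _ = (m.cD m.d0 ^ (j % 3))⁻¹ * m.c g
          rw [← pow_eq_pow_mod j m.cD_d0_3, map_mul, map_inv, map_pow]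
          rfl
      exact (Nat.card_le_card_of_surjective _ h4).trans (by simp)
    have h4 : 3 ^ 2 ∣ Nat.card C0 := by
      have h5 := (C0.subgroupOf Z).card_mul_index
      rw [Nat.card_congr (subgroupOfEquivOfLe h1).toEquiv] at h5
      change Nat.card C0 * C0.relIndex Z = _ at h5
      have h6 : Nat.card Z ≠ 0 := Nat.card_pos.ne'
      rw [← h5] at h h6
      generalize C0.relIndex Z = r at h h3 h6
      interval_cases r <;> omega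
    obtain ⟨R, hR⟩ := Sylow.exists_subgroup_card_pow_prime 3 h4
    have h5 : R.map C0.subtype ≤ zpowers (m.c m.x) := by
      rintro _ ⟨⟨_, g, hg, rfl⟩, hr, rfl⟩
      have h6 : m.c g ^ 3 ^ 2 = 1 := by
        rw [← hR]
        exact congrArg (fun y : ↥R => ((y : ↥C0) : ↥m.Gam)) (pow_card_eq_one' (x := (⟨_, hr⟩ : ↥R)))
      have h7 : g * m.x = m.x * g := mem_centralizer_singleton_iff.1 hg
      refine m.step h7 ?_
      rw [← map_pow]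
      refine m.step (Commute.pow_left h7 3).eq ?_
      rw [map_pow, ← pow_mul, show 3 * 3 = 3 ^ 2 by norm_num, h6]
      exact one_mem _
    have h6 := card_dvd_of_le h5
    rw [card_map_of_injective C0.subtype_injective, hR, Nat.card_zpowers] at h6
    have h7 := h6.trans (orderOf_dvd_of_pow_eq_one hx3)
    omega

/-- the graph automorphism -/
def γ' : ↥m.Gam := ⟨m.γ, 1, m.γ, m.γΦ, by simp⟩

/-- the data -/
noncomputable def dat : Dat ↥m.Gam S where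
  ψ := MulEquiv.ofBijective m.ψ0 ⟨m.ψ0_inj, m.ψ0_surj⟩
  inj := m.conj_inj
  I := m.In
  G := m.c.range
  Φ := m.Ph
  W := m.W
  R := (R0 μ).map m.cD
  P := m.P
  hI _ := m.mem_In
  nG := m.nG
  I_le := map_le_range _ _
  dec β := by
    obtain ⟨g, τ, h1, h2⟩ := m.dec β
    exact ⟨_, ⟨g, rfl⟩, τ, h1, h2⟩
  comm _ h _ h' := m.Ph_comm h h'
  δ := m.cD m.δ0
  δG := ⟨_, rfl⟩
  δI h := by
    obtain ⟨v, hv⟩ := m.c_mem_In.1 h
    exact m.ζ_nc v (hv.symm.trans m.det_δ)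
  δP := m.cD_mem_B m.is3_δ0
  δ3 := by
    rw [← cD_eq, ← map_pow]
    exact m.c_mem_In.2 ⟨_, map_pow _ _ _⟩
  gen := by
    rintro _ ⟨g, rfl⟩
    obtain ⟨v, i, h⟩ := m.ζ_gen (m.det g)
    refine ⟨i, m.c (g * (m.D m.δ0 ^ i)⁻¹), m.c_mem_In.2 ⟨v, ?_⟩, ?_⟩
    · rw [map_mul, map_inv, map_pow, det_δ, h, mul_inv_cancel_right]
    · rw [map_mul, map_inv, map_pow, cD_eq, inv_mul_cancel_right]
  γ := m.γ'
  γΦ := m.γΦ
  γδ := by
    rw [m.Ph_cD (e := -1) (τ := m.γ') (fun t => (m.γD t).trans (congrArg m.D (zpow_neg_one t).symm)), mul_inv_cancel_right, zpow_neg_one, map_inv,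
      inv_mul_cancel]
    exact one_mem _
  u := m.p ⟨m.u, m.det_u⟩
  cls s := by
    obtain ⟨y, rfl⟩ := m.surj s
    rcases m.cls y y.2 with ⟨g, z, h⟩ | ⟨g, h1, h2⟩
    · refine .inl ⟨_, ⟨g, rfl⟩, ?_⟩
      change _ = m.ψ0 _ _
      rw [ψ0_p, ← mul_inv_eq_one, ← map_inv, ← map_mul, m.ker]
      exact ⟨z, mul_inv_eq_iff_eq_mul.2 h⟩
    · refine .inr ⟨_, ⟨g, rfl⟩, fun h => ?_, ?_⟩
      · obtain ⟨v, hv⟩ := m.c_mem_In.1 h
        exact m.ζ_nc v (hv.symm.trans h2)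
      · change m.ψ0 _ _ = _
        rw [ψ0_p]
        exact congrArg m.p (Subtype.ext (mul_inv_eq_iff_eq_mul.2 h1))
  smallC := m.smallC
  cenP _ h1 h2 h3 _ h4 := m.cenP h1 h2 h3 h4
  s := m.s
  d := m.cD m.d0
  t := m.cD ![m.ζ⁻¹, m.ζ, 1]
  sI := ⟨_, m.det_σ, rfl⟩
  sP := m.s_mem_B
  dI := ⟨_, m.det_d, rfl⟩
  dP := m.cD_mem_B m.is3_d0
  s3 := m.s3
  d3 := m.cD_d0_3
  dcen _ h := m.dcen h
  csd := by
    rintro _ ⟨g, -, rfl⟩ h1 h2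
    exact m.csd h1 h2
  cs := by
    rintro _ ⟨t, -, k, τ, h1, h2, rfl⟩ h
    obtain ⟨e, he, -⟩ := m.Ph_pw h1
    have hc : Commute (m.s ^ k * τ) m.s := (Commute.pow_self _ _).mul_left (m.Ph_s h1)
    rw [mul_assoc, hc.eq, ← mul_assoc, ← mul_assoc m.s, mul_left_inj] at h
    obtain ⟨j, hj⟩ := m.cD_of_s h.symm
    refine ⟨m.cD t * m.s ^ k, ?_, τ, h1, (m.plus_iff he).2 (m.dvd_of_is3 he h2), (mul_assoc _ _ _).symm⟩
    rw [hj]
    exact m.In.mul_mem (m.In.pow_mem ⟨_, m.det_d, rfl⟩ j) (m.In.pow_mem ⟨_, m.det_σ, rfl⟩ k)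
  W_comm _ ha _ hb := m.W_comm ha hb
  sW := m.s_not_W
  R_comm _ ha _ hb h1 h2 := m.R_comm ha hb h1 h2
  tI := ⟨_, by rw [SetLike.mem_coe, MonoidHom.mem_ker, m.det_D]; simp, rfl⟩
  tP := m.cD_mem_B (is3_vec (Is3.inv m.ζ3) m.ζ3 Is3.one)
  tW := by
    rw [mem_W, ← cD_eq, c_apply, (m.D_comm _ _).eq, mul_inv_cancel_right]
  tR := m.t_not_R

end Md

end Cfsg.Agent.KZ.L3
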