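import Cfsg.Agent.KZ.L3.Mat
import Cfsg.Agent.KZ.L3.Mod2

/-!
# KZ, `L₃^ε(q)` with `3 ∣ q - ε`: the matrix group is a model (helper56)
-/

set_option autoImplicit false

namespace Cfsg.Agent.KZ.L3

open Cfsg Matrix

variable {K : Type} [Field K]

theorem exists_zpow [Finite K] (φ : K →+* K) : ∃ e : ℤ, ∀ a : Kˣ, φ a = ((a ^ e : Kˣ) : K) := by
  obtain ⟨e, he⟩ := MonoidHom.map_cyclic (Units.map (φ : K →* K))
  exact ⟨e, fun a => congrArg Units.val (he a)⟩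

theorem hom_comm [Finite K] (φ ψ : K →+* K) (a : K) : φ (ψ a) = ψ (φ a) := by
  by_cases h : a = 0
  · simp [h]
  obtain ⟨e, he⟩ := exists_zpow φ
  obtain ⟨e', he'⟩ := exists_zpow ψ
  lift a to Kˣ using Ne.isUnit h
  rw [he, he', he, he', ← _root_.zpow_mul, ← _root_.zpow_mul, mul_comm]

namespace Fd

variable (f : Fd K)

/-- the group `GL₃^ε(q)` -/
def Y : Subgroup (GL (Fin 3) K) where
  carrier := {g | f.Un g}
  one_mem' := fun _ => by rw [Units.val_one, st_one, Matrix.mul_one]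
  mul_mem' := fun {a b} ha hb hU => by
    rw [Units.val_mul, st_mul, Matrix.mul_assoc, ← Matrix.mul_assoc (f.st (a : M3 K)), ha hU, Matrix.one_mul, hb hU]
  inv_mem' := fun {a} ha hU => by
    have h : f.st (a : M3 K) = ((a⁻¹ : GL (Fin 3) K) : M3 K) := (Units.inv_eq_of_mul_eq_one_left (ha hU)).symm
    nth_rewrite 2 [← h]
    rw [← st_mul, Units.mul_inv, st_one]

/-- the scalars -/
def μ : Subgroup Kˣ where
  carrier := {a | f.U → f.b a * a = 1}
  one_mem' := fun _ => by simp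
  mul_mem' := fun {a b} ha hb hU => by
    rw [Units.val_mul, map_mul]
    linear_combination (f.b b * b) * ha hU + hb hU
  inv_mem' := fun {a} ha hU => by
    rw [Units.val_inv_eq_inv_val, map_inv₀, ← mul_inv, ha hU, inv_one]

/-- the matrix -/
def mt : ↥f.Y →* M3 K := (Units.coeHom _).comp f.Y.subtype

theorem mt_inj : Function.Injective f.mt := fun _ _ h => Subtype.ext (Units.ext h)

theorem mt_un (y : ↥f.Y) : f.Un (f.mt y) := y.2

theorem mt_det (y : ↥f.Y) : det (f.mt y) ≠ 0 := GeneralLinearGroup.det_ne_zero y.1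

/-- an element from a matrix -/
noncomputable def mkY (A : M3 K) (h : det A ≠ 0) (h' : f.Un A) : ↥f.Y := ⟨GeneralLinearGroup.mkOfDetNeZero A h, h'⟩

theorem mt_mk (A : M3 K) (h : det A ≠ 0) (h' : f.Un A) : f.mt (f.mkY A h h') = A := rfl

/-- a homomorphism from matrices -/
def lift {X : Type} [Group X] (φ : X →* M3 K) (h : ∀ x, f.Un (φ x)) : X →* ↥f.Y := φ.toHomUnits.codRestrict _ h

theorem mt_lift {X : Type} [Group X] (φ : X →* M3 K) (h : ∀ x, f.Un (φ x)) (x : X) : f.mt (f.lift φ h x) = φ x := rfl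

/-- the value -/
def vl : ↥f.μ →* K := (Units.coeHom _).comp f.μ.subtype

theorem vl_inj : Function.Injective f.vl := fun _ _ h => Subtype.ext (Units.ext h)

theorem vl_un (a : ↥f.μ) (hU : f.U) : f.b (f.vl a) * f.vl a = 1 := a.2 hU

/-- a scalar from a field element -/
def mkμ (a : K) (h : a ≠ 0) (h' : f.U → f.b a * a = 1) : ↥f.μ := ⟨Units.mk0 a h, h'⟩

/-- diagonal matrices -/
def D : (Fin 3 → ↥f.μ) →* ↥f.Y := f.lift
  { toFun := fun t => diagonal fun i => f.vl (t i)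
    map_one' := by simp
    map_mul' := fun t t' => by rw [diagonal_mul_diagonal]; simp } fun t hU => by
    change f.st (diagonal _) * diagonal _ = 1
    rw [st, diagonal_map (map_zero _), diagonal_transpose, diagonal_mul_diagonal, ← diagonal_one]
    exact congrArg diagonal (funext fun i => f.vl_un (t i) hU)

theorem mt_D (t : Fin 3 → ↥f.μ) : f.mt (f.D t) = diagonal fun i => f.vl (t i) := rfl

theorem mt_sc (z : ↥f.μ) : f.mt (f.D fun _ => z) = f.vl z • (1 : M3 K) := by rw [mt_D, smul_one_eq_diagonal]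

theorem D_inj : Function.Injective f.D := fun _ _ h =>
  funext fun i => f.vl_inj (congrFun (diagonal_injective (congrArg f.mt h)) i)

/-- the permutation matrix -/
noncomputable def σ : ↥f.Y := f.mkY !![0, 1, 0; 0, 0, 1; 1, 0, 0] (by simp [det_fin_three]) fun _ => by
  ext i j
  fin_cases i <;> fin_cases j <;> simp [mul_apply, Fin.sum_univ_three, st_apply]

theorem mt_σ : f.mt f.σ = !![0, 1, 0; 0, 0, 1; 1, 0, 0] := rfl

/-- the determinant -/
def dt : ↥f.Y →* ↥f.μ := (GeneralLinearGroup.det.comp f.Y.subtype).codRestrict _ fun y hU => by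
  have h := congrArg det (f.mt_un y hU)
  rwa [det_mul, det_st, det_one] at h

theorem vl_dt (y : ↥f.Y) : f.vl (f.dt y) = det (f.mt y) := rfl

theorem σD (t : Fin 3 → ↥f.μ) : f.σ * f.D t = f.D (fun i => t (i + 1)) * f.σ := f.mt_inj (by
  rw [map_mul, map_mul, mt_σ, mt_D, mt_D]
  ext i j
  fin_cases i <;> fin_cases j <;> simp [mul_diagonal, diagonal_mul])

theorem ω_ne0 : f.ω ≠ 0 := fun e => by simpa [e] using f.ω2

/-- `ω` as a scalar -/
def ω' : ↥f.μ := f.mkμ f.ω f.ω_ne0 fun hU => by rw [f.bω hU, ← pow_succ, f.ω3]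

/-- `ζ` as a scalar -/
def ζ' : ↥f.μ := f.mkμ f.ζ f.ζ_ne f.bζ

theorem exists_D {g : ↥f.Y} {t : Fin 3 → K} (h : f.mt g = diagonal t) : ∃ t', g = f.D t' := by
  have h1 := f.mt_det g
  rw [h, det_diagonal, Finset.prod_ne_zero_iff] at h1
  refine ⟨fun i => f.mkμ (t i) (h1 i (Finset.mem_univ i)) fun hU => ?_, f.mt_inj h⟩
  have h2 := f.mt_un g hU
  rw [h, st, diagonal_map (map_zero _), diagonal_transpose, diagonal_mul_diagonal, ← diagonal_one] at h2
  exact congrFun (diagonal_injective h2) i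

theorem mt_d : f.mt (f.D ![1, f.ω', f.ω' ^ 2]) = diagonal ![1, f.ω, f.ω ^ 2] := by
  rw [mt_D]
  congr 1
  funext i
  fin_cases i
  · exact map_one _
  · rfl
  · exact map_pow f.vl _ _

theorem diag (g : ↥f.Y) (h : g * f.D ![1, f.ω', f.ω' ^ 2] = f.D ![1, f.ω', f.ω' ^ 2] * g) : ∃ t, g = f.D t := by
  have h1 := congrArg f.mt h
  rw [map_mul, map_mul, mt_d] at h1
  exact f.exists_D (f.diag_of_comm h1)

theorem exists_sc {g : ↥f.Y} {a : K} (h : f.mt g = a • (1 : M3 K)) : ∃ z, g = f.D fun _ => z := by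
  rw [smul_one_eq_diagonal] at h
  obtain ⟨t, rfl⟩ := f.exists_D h
  refine ⟨t 0, congrArg f.D (funext fun i => f.vl_inj ?_)⟩
  have h1 := diagonal_injective h
  exact (congrFun h1 i).trans (congrFun h1 0).symm

theorem mt_x : f.mt (f.σ * f.D ![1, 1, f.ζ']) = !![0, 1, 0; 0, 0, f.ζ; 1, 0, 0] := by
  rw [map_mul, mt_σ, mt_D]
  ext i j
  fin_cases i <;> fin_cases j <;> simp [mul_diagonal]
  rfl

theorem cx' (g : ↥f.Y) (z : ↥f.μ) (h : g * (f.σ * f.D ![1, 1, f.ζ']) = f.σ * f.D ![1, 1, f.ζ'] * g)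
    (h' : g ^ 3 = f.D fun _ => z) : ∃ z', ∃ k : ℕ, g = f.D (fun _ => z') * (f.σ * f.D ![1, 1, f.ζ']) ^ k := by
  have h1 := congrArg f.mt h
  have h2 := congrArg f.mt h'
  rw [map_mul, map_mul _ _ g, mt_x] at h1
  rw [map_pow, mt_sc] at h2
  obtain ⟨a, k, h3⟩ := f.cx h1 h2
  obtain ⟨w, hw⟩ := f.exists_sc (g := g * ((f.σ * f.D ![1, 1, f.ζ']) ^ k)⁻¹) (a := a) (by
    rw [map_mul, h3, ← mt_x, ← map_pow, Matrix.smul_mul, ← map_mul, mul_inv_cancel, map_one])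
  exact ⟨w, k, mul_inv_eq_iff_eq_mul.1 hw⟩

theorem exists_u : ∃ u : ↥f.Y, f.dt u = 1 ∧ ∀ u' : ↥f.Y, Reg (f.mt u') → ∃ g, u' = g * u * g⁻¹ := by
  by_cases h : ∃ u : ↥f.Y, Reg (f.mt u)
  · obtain ⟨u, hu⟩ := h
    refine ⟨u, f.vl_inj (by rw [vl_dt, det_reg hu, map_one]), fun u' hu' => ?_⟩
    obtain ⟨g, h1, h2, h3⟩ := f.reg_conj hu hu' (f.mt_un u) (f.mt_un u')
    exact ⟨f.mkY g h1 h3, eq_mul_inv_of_mul_eq (f.mt_inj (by rw [map_mul, map_mul, mt_mk, h2]))⟩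
  · exact ⟨1, map_one _, fun u' hu' => absurd ⟨u', hu'⟩ h⟩

theorem cls' [Finite K] (h3 : 3 ∣ Nat.card K - 1) {u : ↥f.Y} (hu : ∀ u' : ↥f.Y, Reg (f.mt u') → ∃ g, u' = g * u * g⁻¹)
    (y : ↥f.Y) (hy : f.dt y = 1) :
    (∃ g z, y = f.D (fun _ => z) * (g * u * g⁻¹)) ∨ ∃ g, g * y = y * g ∧ f.dt g = f.ζ' := by
  rcases f.cls h3 (f.mt_un y) (by rw [← vl_dt, hy, map_one]) with ⟨r, v, h1, h2, h4, h5⟩ | ⟨g, h1, h2, h4⟩
  · have h6 : r ≠ 0 := by rintro rfl; simp at h1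
    obtain ⟨g, hg⟩ := hu ((f.D fun _ => f.mkμ r h6 h2)⁻¹ * y) (by
      have h7 : f.mt y = r • f.mt ((f.D fun _ => f.mkμ r h6 h2)⁻¹ * y) := by
        conv_lhs => rw [← mul_inv_cancel_left (f.D fun _ => f.mkμ r h6 h2) y, map_mul, mt_sc, Matrix.smul_mul,
          Matrix.one_mul]
        rfl
      rwa [← smul_right_injective _ h6 (h5.symm.trans h7)])
    exact .inl ⟨g, _, inv_mul_eq_iff_eq_mul.1 hg⟩
  · exact .inr ⟨f.mkY g (by rw [h2]; exact f.ζ_ne) h4, f.mt_inj (by rw [map_mul, map_mul, mt_mk, h1]), f.vl_inj h2⟩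

/-- inverse transpose -/
def itH : ↥f.Y →* ↥f.Y := f.lift
  { toFun := fun y => (f.mt y⁻¹)ᵀ
    map_one' := by simp
    map_mul' := fun y y' => by rw [_root_.mul_inv_rev, map_mul, transpose_mul] } fun y hU => by
    change f.st (f.mt y⁻¹)ᵀ * (f.mt y⁻¹)ᵀ = 1
    rw [← transpose_one, ← mul_eq_one_comm.1 (f.mt_un y⁻¹ hU), transpose_mul]
    rfl

theorem mt_itH (y : ↥f.Y) : f.mt (f.itH y) = (f.mt y⁻¹)ᵀ := rfl

theorem itH_itH (y : ↥f.Y) : f.itH (f.itH y) = y := f.mt_inj (by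
  rw [mt_itH, ← map_inv, mt_itH, inv_inv, transpose_transpose])

/-- inverse transpose -/
def it : MulAut ↥f.Y := MonoidHom.toMulEquiv f.itH f.itH (MonoidHom.ext f.itH_itH) (MonoidHom.ext f.itH_itH)

theorem mt_it (y : ↥f.Y) : f.mt (f.it y) = (f.mt y⁻¹)ᵀ := rfl

variable [Finite K]

/-- field homomorphisms -/
def flH (φ : K →+* K) : ↥f.Y →* ↥f.Y := f.lift ((φ.mapMatrix : M3 K →+* M3 K).toMonoidHom.comp f.mt) fun y hU => by
  change f.st ((f.mt y).map φ) * (f.mt y).map φ = 1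
  have h : f.st ((f.mt y).map φ) = (f.st (f.mt y)).map φ := by
    ext i j
    exact hom_comm _ _ _
  rw [h, ← Matrix.map_mul, f.mt_un y hU, Matrix.map_one _ (map_zero _) (map_one _)]

theorem mt_flH (φ : K →+* K) (y : ↥f.Y) : f.mt (f.flH φ y) = (f.mt y).map φ := rfl

/-- field automorphisms -/
def fl (φ : K ≃+* K) : MulAut ↥f.Y := MonoidHom.toMulEquiv (f.flH φ) (f.flH φ.symm)
  (MonoidHom.ext fun y => f.mt_inj (by ext i j; exact φ.symm_apply_apply _))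
  (MonoidHom.ext fun y => f.mt_inj (by ext i j; exact φ.apply_symm_apply _))

theorem mt_fl (φ : K ≃+* K) (y : ↥f.Y) : f.mt (f.fl φ y) = (f.mt y).map φ := rfl

/-- the field and graph automorphisms -/
def Φ : Subgroup (MulAut ↥f.Y) := Subgroup.closure (Set.range f.fl ∪ {f.it})

theorem fl_mem (φ : K ≃+* K) : f.fl φ ∈ f.Φ := Subgroup.subset_closure (.inl ⟨φ, rfl⟩)

theorem it_mem : f.it ∈ f.Φ := Subgroup.subset_closure (.inr rfl)

theorem Φ_comm : ∀ τ ∈ f.Φ, ∀ τ' ∈ f.Φ, τ * τ' = τ' * τ := by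
  have h1 : ∀ φ, f.fl φ * f.it = f.it * f.fl φ := fun φ => MulEquiv.ext fun y => f.mt_inj (by
    change f.mt (f.fl φ (f.it y)) = f.mt (f.it (f.fl φ y))
    rw [mt_fl, mt_it, mt_it, ← map_inv, mt_fl]
    rfl)
  have h : f.Φ ≤ Subgroup.centralizer (f.Φ : Set (MulAut ↥f.Y)) := by
    rw [Φ, Subgroup.centralizer_closure, Subgroup.closure_le]
    rintro _ (⟨φ, rfl⟩ | rfl) _ (⟨ψ, rfl⟩ | rfl)
    · exact MulEquiv.ext fun y => f.mt_inj (by ext i j; exact hom_comm (ψ : K →+* K) φ _)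
    · exact (h1 φ).symm
    · exact h1 ψ
    · rfl
  exact fun τ h1 τ' h2 => (h h1 τ' h2).symm

omit [Finite K] in
theorem it_D (t : Fin 3 → ↥f.μ) : f.it (f.D t) = f.D t⁻¹ := f.mt_inj (by
  rw [mt_it, ← map_inv, mt_D, diagonal_transpose])

theorem Φ_prop : ∀ τ ∈ f.Φ, τ f.σ = f.σ ∧ ∃ e : ℤ, (∀ t, τ (f.D t) = f.D (t ^ e)) ∧ ∀ y, f.dt (τ y) = f.dt y ^ e := by
  let E : Submonoid (MulAut ↥f.Y) :=
    { carrier := {τ | τ f.σ = f.σ ∧ ∃ e : ℤ, (∀ t, τ (f.D t) = f.D (t ^ e)) ∧ ∀ y, f.dt (τ y) = f.dt y ^ e}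
      one_mem' := ⟨rfl, 1, by simp, by simp⟩
      mul_mem' := by
        rintro a b ⟨a1, e, a2, a3⟩ ⟨b1, e', b2, b3⟩
        refine ⟨by rw [MulAut.mul_apply, b1, a1], e' * e, fun t => ?_, fun y => ?_⟩
        · rw [MulAut.mul_apply, b2, a2, _root_.zpow_mul]
        · rw [MulAut.mul_apply, a3, b3, _root_.zpow_mul] }
  intro τ hτ
  change τ ∈ E
  induction hτ using Subgroup.closure_induction with
  | mem x hx =>
    rcases hx with ⟨φ, rfl⟩ | rfl
    · obtain ⟨e, he⟩ := exists_zpow (φ : K →+* K)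
      have h1 : ∀ a : ↥f.μ, φ (f.vl a) = f.vl (a ^ e) := fun a => he a
      refine ⟨f.mt_inj ?_, e, fun t => f.mt_inj ?_, fun y => f.vl_inj ?_⟩
      · rw [mt_fl, mt_σ]
        ext i j
        fin_cases i <;> fin_cases j <;> simp
      · rw [mt_fl, mt_D, mt_D, diagonal_map (map_zero _)]
        exact congrArg diagonal (funext fun i => h1 _)
      · rw [vl_dt, mt_fl, ← h1, vl_dt]
        exact (RingHom.map_det (φ : K →+* K) _).symm
    · refine ⟨f.mt_inj ?_, -1, fun t => by rw [it_D, _root_.zpow_neg_one], fun y => f.vl_inj ?_⟩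
      · have h1 : f.σ⁻¹ = f.σ * f.σ := inv_eq_of_mul_eq_one_right (f.mt_inj (by
          rw [map_mul, map_mul, mt_σ, map_one]
          ext i j
          fin_cases i <;> fin_cases j <;> simp))
        rw [mt_it, h1, map_mul, mt_σ]
        ext i j
        fin_cases i <;> fin_cases j <;> simp
      · rw [vl_dt, mt_it, det_transpose, ← vl_dt, map_inv, _root_.zpow_neg_one]
  | one => exact one_mem _
  | mul x y _ _ hx hy => exact mul_mem hx hy
  | inv x _ hx =>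
    exact (Submonoid.powers_le.2 hx) (mem_powers_iff_mem_zpowers.2 (inv_mem (Subgroup.mem_zpowers x)))

omit [Finite K] in
theorem ζ_nc' (z : ↥f.μ) : z ^ 3 ≠ f.ζ' := fun h => f.ζ_nc (f.vl z) (by rw [← map_pow, h]; rfl)

theorem ζ_gen (z : ↥f.μ) : ∃ v : ↥f.μ, ∃ i : ℕ, z = v ^ 3 * f.ζ' ^ i := by
  obtain ⟨g, hg⟩ := IsCyclic.exists_generator (α := ↥f.μ)
  obtain ⟨k, hk⟩ := (mem_powers_iff_mem_zpowers (x := g)).2 (hg f.ζ')
  obtain ⟨j, rfl⟩ := (mem_powers_iff_mem_zpowers (x := g)).2 (hg z)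
  change g ^ k = _ at hk
  obtain ⟨m, hm⟩ : ∃ m, k * k = 3 * m + 1 := by
    obtain ⟨l, rfl | rfl | rfl⟩ : ∃ l, k = 3 * l ∨ k = 3 * l + 1 ∨ k = 3 * l + 2 := ⟨k / 3, by omega⟩
    · exact absurd (by rw [← hk, ← pow_mul, mul_comm]) (f.ζ_nc' (g ^ l))
    · exact ⟨3 * l * l + 2 * l, by ring⟩
    · exact ⟨3 * l * l + 4 * l + 1, by ring⟩
  refine ⟨(g ^ (m * j))⁻¹, k * j, ?_⟩
  rw [← hk, ← pow_mul, ← mul_assoc, hm, inv_pow, ← pow_mul, eq_inv_mul_iff_mul_eq, ← pow_add]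
  congr 1
  ring

omit [Finite K] in
theorem dt_D (t : Fin 3 → ↥f.μ) : f.dt (f.D t) = t 0 * t 1 * t 2 := f.vl_inj (by
  rw [vl_dt, mt_D, det_diagonal, Fin.prod_univ_three, map_mul, map_mul])

omit [Finite K] in
theorem dt_σ : f.dt f.σ = 1 := f.vl_inj (by rw [vl_dt, mt_σ, map_one]; simp [det_fin_three])

omit [Finite K] in
theorem cen (z : ↥f.μ) (y : ↥f.Y) : f.D (fun _ => z) * y = y * f.D fun _ => z := f.mt_inj (by
  rw [map_mul, map_mul, mt_sc, Matrix.smul_mul, Matrix.mul_smul, Matrix.one_mul, Matrix.mul_one])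

omit [Finite K] in
theorem ω3' : f.ω' ^ 3 = 1 := f.vl_inj (by rw [map_pow, map_one]; exact f.ω3)

omit [Finite K] in
theorem mem_center (y : ↥f.dt.ker) : y ∈ Subgroup.center ↥f.dt.ker ↔ ∃ z, (y : ↥f.Y) = f.D fun _ => z := by
  rw [Subgroup.mem_center_iff]
  refine ⟨fun h => ?_, fun ⟨z, hz⟩ g => Subtype.ext ?_⟩
  · obtain ⟨t, ht⟩ := f.diag y (congrArg Subtype.val (h ⟨_, by
      rw [MonoidHom.mem_ker, dt_D]
      simpa [← pow_succ'] using f.ω3'⟩)).symm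
    have h1 : f.σ * y = y * f.σ := congrArg Subtype.val (h ⟨_, f.dt_σ⟩)
    rw [ht, σD, mul_left_inj] at h1
    have h2 := f.D_inj h1
    have a0 : t 1 = t 0 := congrFun h2 0
    have a1 : t 2 = t 1 := congrFun h2 1
    refine ⟨t 0, ht.trans (congrArg f.D (funext fun i => ?_))⟩
    fin_cases i
    · rfl
    · exact a0
    · exact a1.trans a0
  · change (g : ↥f.Y) * y = y * g
    rw [hz, cen]

/-- the model -/
noncomputable def md (h3 : 3 ∣ Nat.card K - 1) (hζ : ∃ k : ℕ, f.ζ ^ 3 ^ k = 1) {X : Type} [Group X] (e : ↥f.dt.ker ≃* X)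
    (perf : commutator (X ⧸ Subgroup.center X) = ⊤)
    (aut : ∀ H : Subgroup (MulAut (X ⧸ Subgroup.center X)), (∀ (β : MulAut (X ⧸ Subgroup.center X)) (g : ↥f.Y), ∀ τ ∈ f.Φ,
      (∀ x x' : ↥f.dt.ker, (x' : ↥f.Y) = g * τ x * g⁻¹ → β (QuotientGroup.mk (e x)) = QuotientGroup.mk (e x')) → β ∈ H) →
      H = ⊤) : Md ↥f.Y ↥f.μ (X ⧸ Subgroup.center X) where
  D := f.D
  D_inj := f.D_inj
  σ := f.σ
  σ3 := f.mt_inj (by
    rw [map_pow, mt_σ, map_one]
    ext i j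
    fin_cases i <;> fin_cases j <;> simp [pow_succ])
  σD := f.σD
  det := f.dt
  det_D := f.dt_D
  det_σ := f.dt_σ
  cen := f.cen
  ω := f.ω'
  ζ := f.ζ'
  ω3 := f.ω3'
  ω_ne h := f.ω_ne (congrArg f.vl h)
  cube z hz := by
    rcases f.cube (z := f.vl z) (by rw [← map_pow, hz, map_one]) with h | h | h
    · exact ⟨0, f.vl_inj (by rw [pow_zero]; exact h)⟩
    · exact ⟨1, f.vl_inj (by rw [pow_one]; exact h)⟩
    · exact ⟨2, f.vl_inj (by rw [map_pow]; exact h)⟩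
  ζ3 := hζ.imp fun k hk => f.vl_inj (by rw [map_pow, map_one]; exact hk)
  ζ_nc := f.ζ_nc'
  ζ_gen := f.ζ_gen
  diag := f.diag
  cx := f.cx'
  u := f.exists_u.choose
  det_u := f.exists_u.choose_spec.1
  cls := f.cls' h3 f.exists_u.choose_spec.2
  Φ := f.Φ
  comm := f.Φ_comm
  Φσ τ h := (f.Φ_prop τ h).1
  pw τ h := (f.Φ_prop τ h).2
  γ := f.it
  γΦ := f.it_mem
  γD := f.it_D
  p := (QuotientGroup.mk' _).comp (e : ↥f.dt.ker →* X)
  surj := (QuotientGroup.mk'_surjective _).comp e.surjective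
  ker y := by
    rw [← mem_center]
    refine (QuotientGroup.eq_one_iff _).trans ?_
    simp only [Subgroup.mem_center_iff]
    exact ⟨fun h g => e.injective (by rw [map_mul, map_mul]; exact h (e g)), fun h g => by
      obtain ⟨g, rfl⟩ := e.surjective g
      change e g * e y = e y * e g
      rw [← map_mul, ← map_mul, h]⟩
  perf := perf
  aut := aut

end Fd

end Cfsg.Agent.KZ.L3
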