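import Cfsg.Agent.KZ.Tool.One
import Cfsg.Agent.H78.Inc.Uniq

/-!
# KZ: the Steinberg character as an invariant character of degree prime to `3` (helper56)
-/

set_option autoImplicit false

namespace Cfsg.Agent.KZ.L3

open Cfsg

attribute [local instance] H687.autAct

/-- a nontrivial character of degree prime to `3` which is fixed by all automorphisms -/
theorem exists_st {S : Type} [Group S] [Finite S] [IsSimpleGroup S] {p : ℕ} (hp : p.Prime) (h3 : p ≠ 3)
    (hL : IsLieTypeChar p S) :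
    ∃ α : IrrCharacter S, ¬ 3 ∣ charDegree (α : S → ℂ) ∧ Nontriv α ∧ ∀ σ : MulAut S, Fixes σ α := by
  have := Fact.mk hp
  obtain ⟨α, h1, h2⟩ := H66.Cod.ndeg_steinberg hp hL (H78.Inc.dvd_card_lie hp hL)
  have hS := H716.SplitAb.hasSplitAb_of_lie hp hL
  have h4 : ¬ p ∣ Nat.card S / charDegree (α : S → ℂ) :=
    H66.Cod.not_dvd_div hp Nat.card_pos.ne' (H674.Codegree.charDegree_dvd_card α.2) (by rw [h2])
  refine ⟨α, fun h => h3 ?_, h1, fun σ => (H687.smul_eq_iff σ α).1 (H330.GowOne.unique_of_hasSplitAb hS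
    (H330.Gow.perfect_of_split (H330.Gow.hasSplit_of_ab hS)) _ _ (by rwa [H687.charDegree_smul]) h4)⟩
  rw [h2] at h
  exact ((Nat.prime_dvd_prime_iff_eq Nat.prime_three hp).1 (Nat.prime_three.dvd_of_dvd_pow h)).symm

end Cfsg.Agent.KZ.L3
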