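import Cfsg.Agent.KZ.L3.Chr
import Cfsg.Agent.KZ.L3.Ins
import Cfsg.Agent.KZ.L3.St
import Cfsg.Agent.LieClassical.GUOrder
import Cfsg.Agent.S2689
import Cfsg.Agent.S2691

/-!
# KZ: the rows of `L₃(q)`, `3 ∣ q - 1`, and of `U₃(q)`, `3 ∣ q + 1` (helper56)
-/

set_option autoImplicit false

namespace Cfsg.Agent.KZ.L3

open Cfsg Matrix

/-- transport of the data -/
def Dat.congr {Γ S T : Type} [Group Γ] [Group S] [Group T] (D : Dat Γ S) (e : S ≃* T) : Dat Γ T :=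
  { D with
    ψ := D.ψ.trans (MulAut.congr e)
    inj := fun a b h => e.symm.injective (D.inj (by rw [← Res.congr_conj, ← Res.congr_conj, h]))
    hI := fun β => (D.hI β).trans ⟨fun ⟨s, hs⟩ => ⟨e s, by rw [MulEquiv.trans_apply, hs, Res.congr_conj]⟩,
      fun ⟨s, hs⟩ => ⟨e.symm s, (MulAut.congr e).injective (by rw [Res.congr_conj, e.apply_symm_apply]; exact hs)⟩⟩
    u := e D.u
    cls := fun x => (D.cls (e.symm x)).imp
      (fun ⟨g, h1, h2⟩ => ⟨g, h1, e.symm.injective (by simpa using h2)⟩)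
      fun ⟨g, h1, h2, h3⟩ => ⟨g, h1, h2, e.symm.injective (by simpa using h3)⟩ }

theorem perf_of {S T : Type} [Group S] [Group T] (h1 : IsSimpleGroup S) (h2 : ¬ IsMulCommutative S) (e : S ≃* T) :
    commutator T = ⊤ := by
  have := e.symm.isSimpleGroup
  refine (IsSimpleGroup.eq_bot_or_eq_top_of_normal (commutator T) inferInstance).resolve_left fun h => h2 ⟨⟨fun a b => ?_⟩⟩
  rw [commutator_eq_bot_iff_center_eq_top] at h
  exact e.injective (by rw [map_mul, map_mul, Subgroup.mem_center_iff.1 (h ▸ Subgroup.mem_top (e b))])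

variable {K : Type} [Field K]

theorem exists_ωζ [Finite K] (h3 : 3 ∣ Nat.card K - 1) :
    ∃ ω ζ : K, ω ^ 2 + ω + 1 = 0 ∧ (3 : K) ≠ 0 ∧ (∀ a, a ^ 3 ≠ ζ) ∧ ∃ k : ℕ, ζ ^ 3 ^ k = 1 := by
  have : Fact (Nat.Prime 3) := ⟨Nat.prime_three⟩
  obtain ⟨w, hw⟩ := exists_prime_orderOf_dvd_card' (G := Kˣ) 3 (by rwa [Nat.card_units])
  have h1 : w ^ 3 = 1 := hw ▸ pow_orderOf_eq_one w
  have h2 : w ≠ 1 := fun h => by simp [h] at hw
  have h4 : (w : K) - 1 ≠ 0 := sub_ne_zero.2 fun h => h2 (Units.ext h)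
  have h5 : (w : K) ^ 2 + w + 1 = 0 := mul_left_cancel₀ h4 (by
    have h6 : (w : K) ^ 3 = 1 := congrArg Units.val h1
    linear_combination h6)
  obtain ⟨g, hg⟩ : ∃ g : Kˣ, ∀ a, a ^ 3 ≠ g := by
    by_contra h
    push Not at h
    exact h2 (Finite.injective_iff_surjective.2 h (h1.trans (one_pow 3).symm))
  obtain ⟨a, b, -, -, ⟨k, hk⟩, hb, rfl⟩ := exists_parts g
  obtain ⟨m, hm⟩ := exists_pow_eq_self_of_coprime (x := b) ((Nat.Prime.coprime_iff_not_dvd Nat.prime_three).2 hb)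
  refine ⟨w, a, h5, fun h => h4 (pow_eq_zero_iff two_ne_zero |>.1 (by linear_combination h5 - w * h)), fun c hc => ?_, k,
    congrArg Units.val hk⟩
  have h6 : c ≠ 0 := by
    rintro rfl
    exact a.ne_zero (by rw [← hc]; simp)
  refine hg (Units.mk0 c h6 * b ^ m) ?_
  rw [mul_pow, pow_right_comm, hm]
  exact congrArg (· * b) (Units.ext hc)

theorem exists_root' [Finite K] {z : K} (hz : z ≠ 0) {m n : ℕ} (h0 : 0 < n) (hn : Nat.card K = m * n + 1)
    (h : z ^ n = 1) : ∃ c, c ^ m = z := by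
  obtain ⟨g, hg⟩ := IsCyclic.exists_generator (α := Kˣ)
  obtain ⟨k, hk⟩ := (mem_powers_iff_mem_zpowers (x := g)).2 (hg (Units.mk0 z hz))
  change g ^ k = _ at hk
  have h1 : orderOf g = m * n := by
    rw [orderOf_eq_card_of_forall_mem_zpowers hg, Nat.card_units, hn]
    rfl
  obtain ⟨j, rfl⟩ := Nat.dvd_of_mul_dvd_mul_right h0 (show m * n ∣ k * n from
    h1 ▸ orderOf_dvd_of_pow_eq_one (by rw [pow_mul, hk]; exact Units.ext h))
  exact ⟨((g ^ j : Kˣ) : K), by rw [mul_comm, pow_mul] at hk; exact congrArg Units.val hk⟩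

namespace Fd

variable (f : Fd K)

/-- the matrices of determinant one -/
def toSL : ↥f.dt.ker →* SpecialLinearGroup (Fin 3) K where
  toFun x := ⟨f.mt x, by rw [← vl_dt, x.2, map_one]⟩
  map_one' := rfl
  map_mul' _ _ := rfl

theorem toSL_inj : Function.Injective f.toSL := fun _ _ h => Subtype.ext (f.mt_inj (congrArg Subtype.val h))

theorem exists_toSL (s : SpecialLinearGroup (Fin 3) K) (h : f.Un s) : ∃ x, f.toSL x = s :=
  ⟨⟨f.mkY s (by rw [s.det_coe]; exact one_ne_zero) h, f.vl_inj s.det_coe⟩, rfl⟩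

theorem semi [Finite K] {g : ↥f.Y} {φ : K ≃+* K} {x x' : ↥f.Y} (h : x' = g * f.fl φ x * g⁻¹) :
    f.mt x' = ((g : GL (Fin 3) K) : M3 K) * (f.mt x).map φ * (((g : GL (Fin 3) K)⁻¹ : GL (Fin 3) K) : M3 K) :=
  congrArg f.mt h

end Fd

theorem char_ne {F : Type} [Field F] {p : ℕ} [CharP F p] (h : (3 : F) ≠ 0) : p ≠ 3 := by
  rintro rfl
  exact h (CharP.cast_eq_zero F 3)

/-- **the row of `L₃(q)`, `3 ∣ q - 1`** -/
theorem row_l3 : Row fun S _ => ∃ (F : Type) (_ : Field F) (_ : Fintype F), 3 ∣ Fintype.card F - 1 ∧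
    Nonempty (S ≃* ProjectiveSpecialLinearGroup (Fin 3) F) := by
  refine row_of_dat fun S _ _ h1 h2 ⟨F, _, _, h3, ⟨ι⟩⟩ => ?_
  obtain ⟨p, hp⟩ := CharP.exists F
  obtain ⟨n, hp', hn⟩ := FiniteField.card F p
  have := Fact.mk hp'
  rw [← Nat.card_eq_fintype_card] at h3
  obtain ⟨ω, ζ, a1, a2, a3, a4⟩ := exists_ωζ h3
  refine ⟨?_, exists_st hp' (char_ne a2) (.inl ⟨F, inferInstance, inferInstance, hp, 3, by norm_num, by norm_num, ⟨ι⟩⟩)⟩
  let f : Fd F := ⟨False, RingHom.id F, False.elim, ω, a1, a2, False.elim, ζ, a3, False.elim, False.elim⟩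
  let e := MulEquiv.ofBijective f.toSL ⟨f.toSL_inj, fun s => f.exists_toSL s False.elim⟩
  refine ⟨_, _, ⟨(f.md h3 a4 e (perf_of h1 h2 ι) fun H hH => top_unique ?_).dat.congr ι.symm⟩⟩
  rw [← S2689.result hn n.2 (n := 3) (by norm_num) (by norm_num)]
  refine sup_le ((Subgroup.closure_le _).2 ?_) ((Subgroup.closure_le _).2 ?_)
  · rintro β ⟨g, σ, h⟩
    exact hH β ⟨g, False.elim⟩ _ (f.fl_mem σ) fun x x' hx => h _ _ (f.semi hx)
  · refine fun β h => hH β 1 _ f.it_mem fun x x' hx => h _ _ ?_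
    rw [one_mul, inv_one, mul_one] at hx
    rw [← map_inv]
    exact congrArg f.mt hx

/-- **the row of `U₃(q)`, `3 ∣ q + 1`** -/
theorem row_u3 : Row fun S _ => ∃ (F : Type) (_ : Field F) (_ : Fintype F) (q : ℕ), Fintype.card F = q ^ 2 ∧ 3 ∣ q + 1 ∧
    q ≠ 2 ∧ Nonempty (S ≃* PSU 3 F q) := by
  refine row_of_dat fun S _ _ h1 h2 ⟨F, _, _, q, hF, hq, hq2, ⟨ι⟩⟩ => ?_
  obtain ⟨p, hp⟩ := CharP.exists F
  obtain ⟨n, hp', hn⟩ := FiniteField.card F p
  have := Fact.mk hp'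
  have b1 := LieClassical.GUOrder.two_le hF
  obtain ⟨k, -, hk⟩ := (Nat.dvd_prime_pow hp').1 (show q ∣ p ^ (n : ℕ) by rw [← hn, hF]; exact dvd_pow_self q two_ne_zero)
  have b2 : 1 ≤ k := Nat.pos_of_ne_zero fun h => by rw [h, pow_zero] at hk; omega
  obtain ⟨r, rfl⟩ : ∃ r, q = r + 1 := ⟨q - 1, by omega⟩
  have b3 : Nat.card F = (r + 1 + 1) * r + 1 := by rw [Nat.card_eq_fintype_card, hF]; ring
  have h3 : 3 ∣ Nat.card F - 1 := by rw [b3]; exact hq.mul_right r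
  obtain ⟨ω, ζ, a1, a2, a3, a4⟩ := exists_ωζ h3
  refine ⟨?_, exists_st hp' (char_ne a2) (.inr (.inr (.inl ⟨F, inferInstance, inferInstance, hp, 3, _, hF, le_rfl, fun h => hq2 h.2, ⟨ι⟩⟩)))⟩
  have b4 : ∀ (z : F) (j : ℕ), z ^ 3 ^ j = 1 → LieClassical.GUOrder.frob hF z * z = 1 := fun z j hz => by
    have c1 : z ≠ 0 := by
      rintro rfl
      simp at hz
    have c2 := FiniteField.pow_card_sub_one_eq_one z c1
    rw [← Nat.card_eq_fintype_card, b3, Nat.add_sub_cancel, pow_mul] at c2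
    exact (pow_succ z _).symm.trans ((pow_eq_one_iff_of_coprime (cop3 (m := r) (by omega) j)).1
      ⟨by rw [pow_right_comm, hz, one_pow], c2⟩)
  have b5 : ω ^ 3 = 1 := by linear_combination (ω - 1) * a1
  let f : Fd F := ⟨True, LieClassical.GUOrder.frob hF, fun _ => LieClassical.GUOrder.frob_frob hF, ω, a1, a2,
    fun _ => by linear_combination ω ^ 2 * b4 ω 1 b5 - LieClassical.GUOrder.frob hF ω * b5, ζ, a3,
    fun _ => a4.elim (b4 ζ), fun _ a c1 c2 => (exists_root' c2 (by omega) b3 (mul_right_cancel₀ c2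
      ((pow_succ a r).symm.trans (c1.trans (one_mul a).symm)))).imp fun c hc => (pow_succ c _).symm.trans hc⟩
  have b6 : ∀ A : M3 F, (∀ u v, hermForm 3 F (r + 1) (A *ᵥ u) (A *ᵥ v) = hermForm 3 F (r + 1) u v) ↔ f.Un A := fun A => by
    rw [LieClassical.GUOrder.mul_map_eq_one_iff hF, ← transpose_eq_one, transpose_mul, transpose_transpose]
    exact ⟨fun h _ => h, fun h => h trivial⟩
  let e := MulEquiv.ofBijective (f.toSL.codRestrict (SU 3 F (r + 1)) fun x => (b6 _).2 (f.mt_un x))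
    ⟨fun _ _ h => f.toSL_inj (congrArg Subtype.val h), fun s => (f.exists_toSL s ((b6 _).1 s.2)).imp fun _ => Subtype.ext⟩
  refine ⟨_, _, ⟨(f.md h3 a4 e (perf_of h1 h2 ι) fun H hH => top_unique ?_).dat.congr ι.symm⟩⟩
  rw [← S2691.result hk b2 hF (n := 3) le_rfl fun h => hq2 h.2]
  refine (Subgroup.closure_le _).2 ?_
  rintro β ⟨g, σ, hg, h⟩
  exact hH β ⟨g, (b6 _).1 hg⟩ _ (f.fl_mem σ) fun x x' hx => h _ _ (f.semi hx)

end Cfsg.Agent.KZ.L3
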