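import Cfsg.Agent.KZ.L3.Grp
import Cfsg.Agent.H774.K0.Six
import Cfsg.Agent.S0173

/-!
# KZ, `L₃^ε(q)` with `3 ∣ q - ε`: the members and the rows from the abstract data (helper56)
-/

set_option autoImplicit false

namespace Cfsg.Agent.KZ.L3

open Cfsg Subgroup Cfsg.Agent.KZ.Tool Cfsg.Agent.KZ.Red Cfsg.Agent.Characters.Core

attribute [local instance] H687.autAct

theorem card_mono {X : Type} [Finite X] {p q : X → Prop} (h : ∀ x, p x → q x) :
    Nat.card {x // p x} ≤ Nat.card {x // q x} :=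
  Nat.card_le_card_of_injective _ (Subtype.map_injective h Function.injective_id)

namespace Dat

variable {Γ S : Type} [Group Γ] [Group S] (D : Dat Γ S) {M : Ideal AlgInt} {A : Subgroup Γ}

attribute [local instance] nI nG

/-- the action on the characters -/
def ac (β : Γ) (θ : IrrCharacter S) : IrrCharacter S := D.ψ β • θ

theorem ac_mul (β β' : Γ) (θ : IrrCharacter S) : D.ac (β * β') θ = D.ac β (D.ac β' θ) := by
  rw [ac, map_mul, mul_smul]; rfl

theorem ac_one (θ : IrrCharacter S) : D.ac 1 θ = θ := by rw [ac, map_one, one_smul]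

theorem ac_I {β : Γ} (h : β ∈ D.I) (θ : IrrCharacter S) : D.ac β θ = θ := by
  obtain ⟨x, hx⟩ := (D.hI _).1 h
  rw [ac, hx, H687.conj_smul]

theorem ac_q {β β' : Γ} (h : D.q β = D.q β') (θ : IrrCharacter S) : D.ac β θ = D.ac β' θ := by
  rw [← inv_mul_cancel_right β β', mul_assoc, ← mul_assoc β, ac_mul, D.ac_I (D.q_eq.1 h)]

theorem ac_inj (β : Γ) {θ θ' : IrrCharacter S} (h : D.ac β θ = D.ac β θ') : θ = θ' := smul_left_cancel _ h

theorem ac_mem (β : Γ) {θ : IrrCharacter S} (h : Mem M θ) : Mem M (D.ac β θ) := Mem.smul _ h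

theorem ac_iff {β : Γ} {θ : IrrCharacter S} : D.ac β θ = θ ↔ Fixes (D.ψ β) θ := (fixes_iff _ _).symm

/-- the stabiliser -/
def stb (θ : IrrCharacter S) : Subgroup Γ := (MulAction.stabilizer (MulAut S) θ).comap (D.ψ : Γ →* MulAut S)

theorem mem_stb {θ : IrrCharacter S} {β : Γ} : β ∈ D.stb θ ↔ D.ac β θ = θ := Iff.rfl

theorem I_le_stb (θ : IrrCharacter S) : D.I ≤ D.stb θ := fun _ h => D.ac_I h θ

theorem G_le_stb {θ : IrrCharacter S} {g : Γ} (h1 : g ∈ D.G) (h2 : g ∉ D.I) (h : g ∈ D.stb θ) : D.G ≤ D.stb θ := by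
  have h3 : D.δ ∈ D.stb θ := by
    rcases D.qG' h1 h2 with h4 | h4
    · exact D.mem_of_q (D.I_le_stb θ) h4.symm h
    · exact D.mem_of_q (D.I_le_stb θ) (β' := g⁻¹) (by rw [map_inv, h4, inv_inv]; rfl) (inv_mem h)
  intro b hb
  obtain ⟨i, y, hy, rfl⟩ := D.gen b hb
  exact mul_mem (D.I_le_stb θ hy) (pow_mem h3 i)

/-- the number of members fixed by `A` -/
noncomputable def fixc (M : Ideal AlgInt) (A : Subgroup Γ) : ℕ :=
  Nat.card {θ : IrrCharacter S // Mem M θ ∧ A ≤ D.stb θ}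

/-- the socle of an overgroup -/
noncomputable def eN (hA : D.I ≤ A) : ↥(D.I.subgroupOf A) ≃* S :=
  (subgroupOfEquivOfLe hA).trans
    ((MulEquiv.subgroupCongr D.range_ι.symm).trans (MonoidHom.ofInjective D.ι_inj).symm)

theorem ι_eN (hA : D.I ≤ A) (n : ↥(D.I.subgroupOf A)) : D.ι (D.eN hA n) = ((n : ↥A) : Γ) :=
  MonoidHom.apply_ofInjective_symm D.ι_inj _

theorem congr_eN (hA : D.I ≤ A) (a : ↥A) :
    MulAut.congr (D.eN hA) (MulAut.conjNormal a : MulAut ↥(D.I.subgroupOf A)) = D.ψ a := by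
  ext x
  obtain ⟨n, rfl⟩ := (D.eN hA).surjective x
  apply D.ι_inj
  rw [ι_ψ, ι_eN]
  simp only [MulAut.congr_apply, MulEquiv.trans_apply, MulEquiv.symm_apply_apply]
  rw [ι_eN]
  rfl

variable [Finite Γ]

include D in
theorem fin : Finite S := Finite.of_injective _ D.ι_inj

theorem k0_N (hM : IsPModular 3 M) (hA : D.I ≤ A) : k0 M ↥(D.I.subgroupOf A) = k0 M S := Res.k0_congr hM (D.eN hA)

theorem fx_N (hM : IsPModular 3 M) (hA : D.I ≤ A) : Res.fx M (D.I.subgroupOf A) = D.fixc M A := by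
  have := D.fin
  refine (Nat.card_congr (Equiv.subtypeEquiv (Res.tr (D.eN hA)) fun θ => ?_)).symm
  rw [Res.mem_tr hM]
  refine and_congr_right fun _ => ⟨fun h g _ => ?_, fun h g hg => ?_⟩
  · rw [Res.fixes_tr, congr_eN]
    exact D.ac_iff.1 (h g.2)
  · have h1 := h ⟨g, hg⟩ trivial
    rw [Res.fixes_tr, congr_eN] at h1
    exact D.ac_iff.2 h1

theorem res3 (hM : IsPModular 3 M) (hA : D.I ≤ A) (h : D.I.relIndex A = 3) : k0 M ↥A = 3 * D.fixc M A := by
  rw [Res.res3 hM (N := D.I.subgroupOf A) h, D.fx_N hM hA]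

theorem fixc_G (hM : IsPModular 3 M) : D.fixc M D.G ≤ 3 := by
  have h1 := D.res3 hM D.I_le D.relIndex_G
  have h2 := D.smallC.k0_le hM
  omega

theorem card_moved : Nat.card {θ : IrrCharacter S // ¬ D.G ≤ D.stb θ} ≤ 3 := by
  have := D.fin
  have : Finite (IrrCharacter S) := finite_irr
  have h1 := S0173.result (D.ψ D.δ)
  have h2 := card_irr (G := S)
  have h3 : Nat.card {χ : IrrCharacter S // (χ : S → ℂ) ∘ D.ψ D.δ = (χ : S → ℂ)} =
      Nat.card {θ : IrrCharacter S // D.G ≤ D.stb θ} :=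
    Nat.card_congr (Equiv.subtypeEquivRight fun θ =>
      ⟨fun h => D.G_le_stb D.δG D.δI (D.ac_iff.2 fun x => congrFun h x), fun h => funext (D.ac_iff.1 (h D.δG))⟩)
  have h4 : ∀ (X : Type) [Finite X] (p : X → Prop), Nat.card X = Nat.card {x // p x} + Nat.card {x // ¬ p x} := by
    intro X _ p
    classical
    rw [← Nat.card_sum, Nat.card_congr (Equiv.sumCompl p)]
  have h5 := h4 _ fun θ : IrrCharacter S => D.G ≤ D.stb θ
  have h6 := h4 _ fun C : ConjClasses S => ConjClasses.map (D.ψ D.δ).toMonoidHom C = C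
  have h7 : Nat.card {C : ConjClasses S // ¬ ConjClasses.map (D.ψ D.δ).toMonoidHom C = C} ≤ Nat.card (Fin 3) := by
    have key : ∀ C : {C : ConjClasses S // ¬ ConjClasses.map (D.ψ D.δ).toMonoidHom C = C}, ∃ i : Fin 3,
        C.1 = ConjClasses.mk (D.ψ (D.δ ^ (i : ℕ)) D.u) := by
      rintro ⟨C, hC⟩
      obtain ⟨x, rfl⟩ := ConjClasses.exists_rep C
      have hq : ∀ {g g' : Γ}, D.q g = D.q g' → ∀ y, ConjClasses.mk (D.ψ g y) = ConjClasses.mk (D.ψ g' y) := by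
        intro g g' h y
        obtain ⟨z, hz⟩ := (D.hI _).1 (D.q_eq.1 h)
        rw [ConjClasses.mk_eq_mk_iff_isConj, ← inv_mul_cancel_right g g', mul_assoc, ← mul_assoc g, map_mul, hz]
        exact (isConj_iff.2 ⟨z, rfl⟩).symm
      rcases D.cls x with ⟨g, hg, rfl⟩ | ⟨g, hg, hg', hx⟩
      · obtain ⟨i, hi⟩ := D.qG hg
        refine ⟨⟨i % 3, Nat.mod_lt _ (by norm_num)⟩, hq ?_ _⟩
        rw [hi, map_pow, pow_eq_pow_mod i D.a3]
        rfl
      · refine absurd ?_ hC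
        change ConjClasses.mk (D.ψ D.δ x) = ConjClasses.mk x
        rcases D.qG' hg hg' with h | h
        · rw [← hq (g := g) h, hx]
        · rw [← hq (g := g⁻¹) (by rw [map_inv, h, inv_inv]; rfl)]
          congr 1
          rw [map_inv, MulAut.inv_apply, MulEquiv.symm_apply_eq]
          exact hx.symm
    choose f hf using key
    exact Nat.card_le_card_of_injective f fun C C' e => Subtype.ext (by rw [hf C, hf C', e])
  rw [Nat.card_eq_fintype_card (α := Fin 3), Fintype.card_fin] at h7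
  omega

theorem card_moved' : Nat.card {θ : IrrCharacter S // Mem M θ ∧ ¬ D.G ≤ D.stb θ} ≤ 3 :=
  haveI := D.fin
  haveI : Finite (IrrCharacter S) := finite_irr
  (card_mono fun _ h => h.2).trans D.card_moved

theorem k0_split (M : Ideal AlgInt) (A : Subgroup Γ) :
    k0 M S = D.fixc M A + Nat.card {θ : IrrCharacter S // Mem M θ ∧ ¬ A ≤ D.stb θ} :=
  haveI := D.fin
  haveI : Finite (IrrCharacter S) := finite_irr
  Spor.card_split _ _

include D in
theorem k0_six (hM : IsPModular 3 M) : k0 M S = 6 := by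
  have := D.fin
  have : Fact (Nat.Prime 3) := ⟨Nat.prime_three⟩
  have h1 : 6 ≤ k0 M S := H774.K0.six_le_card (by norm_num) hM D.nine_dvd
  have h2 := D.k0_split M D.G
  have h3 := D.fixc_G hM
  have h4 := D.card_moved' (M := M)
  omega

theorem fixc_G_eq (hM : IsPModular 3 M) : D.fixc M D.G = 3 := by
  have h1 := D.k0_six hM
  have h2 := D.k0_split M D.G
  have h3 := D.fixc_G hM
  have h4 := D.card_moved' (M := M)
  omega

omit [Finite Γ] in
theorem moved_ac {θ : IrrCharacter S} (h : ¬ D.G ≤ D.stb θ) (β : Γ) : ¬ D.G ≤ D.stb (D.ac β θ) := fun h1 => h fun g hg => by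
  have h2 : D.ac (β * g * β⁻¹) (D.ac β θ) = D.ac β θ := h1 (D.nG.conj_mem g hg β)
  rw [← ac_mul, inv_mul_cancel_right, ac_mul] at h2
  exact D.ac_inj β h2

/-- three different elements exhaust a set with at most three elements -/
theorem _root_.Cfsg.Agent.KZ.L3.mem_three {X : Type} [Finite X] {p : X → Prop} (h : Nat.card {x // p x} ≤ 3) {a b c x : X}
    (ha : p a) (hb : p b) (hc : p c) (hx : p x) (hab : a ≠ b) (hac : a ≠ c) (hbc : b ≠ c) : x = a ∨ x = b ∨ x = c := by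
  classical
  by_contra h1
  push Not at h1
  have h2 : ({x, a, b, c} : Finset X).card = 4 := by
    rw [Finset.card_insert_of_notMem (by simp [h1.1, h1.2.1, h1.2.2]), Finset.card_eq_three.2 ⟨a, b, c, hab, hac, hbc, rfl⟩]
  have h3 : Nat.card ↥({x, a, b, c} : Finset X) ≤ Nat.card {x // p x} :=
    Nat.card_le_card_of_injective (fun y => ⟨y.1, by
      have h4 := y.2
      simp only [Finset.mem_insert, Finset.mem_singleton] at h4
      rcases h4 with h4 | h4 | h4 | h4 <;> rwa [h4]⟩) fun _ _ e => Subtype.ext (Subtype.mk.inj e)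
  rw [Nat.card_eq_finsetCard, h2] at h3
  omega

theorem orbit {θ θ' : IrrCharacter S} (h : ¬ D.G ≤ D.stb θ) (h' : ¬ D.G ≤ D.stb θ') : ∃ i : ℕ, θ' = D.ac (D.δ ^ i) θ := by
  have := D.fin
  have : Finite (IrrCharacter S) := finite_irr
  have h1 : ∀ {η : IrrCharacter S}, ¬ D.G ≤ D.stb η → η ≠ D.ac D.δ η := fun h e => h (D.G_le_stb D.δG D.δI e.symm)
  have h2 : θ ≠ D.ac (D.δ ^ 2) θ := fun e => h (D.G_le_stb (pow_mem D.δG 2)
    (fun h3 => D.δI (mem_of_coprime h3 D.δ3 (by norm_num))) e.symm)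
  rcases mem_three D.card_moved h (D.moved_ac h D.δ) (D.moved_ac h (D.δ ^ 2)) h' (h1 h) h2
    (by rw [sq, ac_mul]; exact h1 (D.moved_ac h D.δ)) with e | e | e
  · exact ⟨0, by rw [pow_zero, ac_one, e]⟩
  · exact ⟨1, by rw [pow_one, e]⟩
  · exact ⟨2, e⟩

/-- `K` fixes the moved characters -/
theorem K_le_moved {θ : IrrCharacter S} (h : ¬ D.G ≤ D.stb θ) : D.K ≤ D.stb θ := fun κ hκ => by
  obtain ⟨i, hi⟩ := D.orbit h (D.moved_ac h κ)
  obtain ⟨j, hj⟩ := D.orbit h (D.moved_ac h D.γ)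
  have h1 : D.ac (κ * D.γ) θ = D.ac (D.δ ^ j * D.δ ^ i) θ := by
    rw [ac_mul, hj, ← ac_mul, D.ac_q (β' := D.δ ^ j * κ) (by rw [map_mul, map_mul, (D.K_cen hκ _).eq]), ac_mul, hi,
      ← ac_mul]
  have h2 : D.ac (D.γ * κ) θ = D.ac ((D.δ ^ i)⁻¹ * D.δ ^ j) θ := by
    rw [ac_mul, hi, ← ac_mul, D.ac_q (β' := (D.δ ^ i)⁻¹ * D.γ) (by
      rw [map_mul, map_mul, map_inv, map_pow, ← inv_pow, show (D.q D.δ)⁻¹ = _ from D.γ_inv.symm, conj_pow,
        inv_mul_cancel_right]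
      rfl), ac_mul, hj, ← ac_mul]
  rw [D.ac_q (β' := D.γ * κ) (by rw [map_mul, map_mul, (D.K_cen hκ _).eq]), h2] at h1
  have h3 : D.δ ^ i * D.δ ^ i ∈ D.stb θ := by
    have h4 := congrArg (D.ac ((D.δ ^ j)⁻¹ * D.δ ^ i)) h1
    rw [← ac_mul, ← ac_mul, show (D.δ ^ j)⁻¹ * D.δ ^ i * ((D.δ ^ i)⁻¹ * D.δ ^ j) = 1 by group, ac_one,
      show (D.δ ^ j)⁻¹ * D.δ ^ i * (D.δ ^ j * D.δ ^ i) = D.δ ^ i * D.δ ^ i by group] at h4
    exact h4.symm
  have h4 : D.δ ^ i ∈ D.stb θ := mem_of_coprime (m := 2) (n := 3) (by rwa [sq])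
    (by rw [← pow_mul, mul_comm, pow_mul]; exact pow_mem (D.I_le_stb θ D.δ3) i) (by norm_num)
  exact hi.trans h4

/-- everything fixes the members which are fixed by `G` -/
theorem top_le_fixed (hM : IsPModular 3 M) (h1 : One M S) {θ : IrrCharacter S} (hθ : Mem M θ) (h : D.G ≤ D.stb θ)
    (β : Γ) : β ∈ D.stb θ := by
  have := D.fin
  have : Finite (IrrCharacter S) := finite_irr
  obtain ⟨α, a1, a2, a3⟩ := h1
  have t1 : ∀ b, D.ac b (triv S) = triv S := fun b => D.ac_iff.2 fun _ => rfl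
  have t2 : ∀ b, D.ac b α = α := fun b => D.ac_iff.2 (a3 _)
  by_cases e1 : θ = triv S
  · rw [e1]; exact t1 β
  by_cases e2 : θ = α
  · rw [e2]; exact t2 β
  have h2 : D.G ≤ D.stb (D.ac β θ) := by
    by_contra h3
    have h4 := D.moved_ac h3 β⁻¹
    rw [← ac_mul, inv_mul_cancel, ac_one] at h4
    exact h4 h
  rcases mem_three (p := fun η => Mem M η ∧ D.G ≤ D.stb η) (D.fixc_G hM) ⟨hθ, h⟩ ⟨mem_triv hM, fun b _ => t1 b⟩
    ⟨a1, fun b _ => t2 b⟩ ⟨D.ac_mem β hθ, h2⟩ e1 e2 (nontriv_iff.1 a2).symm with e | e | e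
  · exact e
  · exact absurd (D.ac_inj β (e.trans (t1 β).symm)) e1
  · exact absurd (D.ac_inj β (e.trans (t2 β).symm)) e2

theorem fixc_K (hM : IsPModular 3 M) (h1 : One M S) (hA : A ≤ D.K) : D.fixc M A = 6 := by
  rw [← D.k0_six hM]
  refine Nat.card_congr (Equiv.subtypeEquivRight fun θ => and_iff_left_of_imp fun hθ => ?_)
  by_cases h : D.G ≤ D.stb θ
  · exact fun β _ => D.top_le_fixed hM h1 hθ h β
  · exact hA.trans (D.K_le_moved h)

theorem fixc_three (hM : IsPModular 3 M) {β : Γ} (h1 : β ∈ A) (h2 : β ∈ D.C) (h3 : β ∉ D.K) : D.fixc M A ≤ 3 := by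
  have := D.fin
  have : Finite (IrrCharacter S) := finite_irr
  refine le_trans (card_mono fun θ hθ => ⟨hθ.1, ?_⟩) (D.fixc_G hM)
  by_contra h
  refine h (D.G_le_stb D.δG D.δI ?_)
  rcases D.decK' h2 h3 with h4 | h4
  · exact inv_mem_iff.1 (((D.stb θ).mul_mem_cancel_right (hθ.2 h1)).1 (D.K_le_moved h h4))
  · exact ((D.stb θ).mul_mem_cancel_right (hθ.2 h1)).1 (D.K_le_moved h h4)

theorem fixc_four (hM : IsPModular 3 M) {β : Γ} (h1 : β ∈ A) (h2 : β ∉ D.C) : D.fixc M A ≤ 4 := by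
  have := D.fin
  have : Finite (IrrCharacter S) := finite_irr
  have h3 := Spor.card_split (fun θ : IrrCharacter S => Mem M θ ∧ A ≤ D.stb θ) fun θ => D.G ≤ D.stb θ
  have h4 : Nat.card {θ : IrrCharacter S // (Mem M θ ∧ A ≤ D.stb θ) ∧ D.G ≤ D.stb θ} ≤ 3 :=
    le_trans (card_mono fun θ hθ => ⟨hθ.1.1, hθ.2⟩) (D.fixc_G hM)
  have h5 : Nat.card {θ : IrrCharacter S // (Mem M θ ∧ A ≤ D.stb θ) ∧ ¬ D.G ≤ D.stb θ} ≤ 1 := by
    refine Finite.card_le_one_iff_subsingleton.2 ⟨fun θ θ' => Subtype.ext ?_⟩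
    obtain ⟨i, hi⟩ := D.orbit θ.2.2 θ'.2.2
    have e1 : D.ac β θ.1 = θ.1 := θ.2.1.2 h1
    have e2 : D.ac β θ'.1 = θ'.1 := θ'.2.1.2 h1
    rw [hi, ← ac_mul, D.ac_q (β' := (D.δ ^ i)⁻¹ * β) (by
      rw [map_mul, map_mul, map_inv, map_pow, ← inv_pow, show (D.q D.δ)⁻¹ = _ from (D.inv_of_not_C h2).symm, conj_pow,
        inv_mul_cancel_right]
      rfl), ac_mul, e1] at e2
    have h6 : D.δ ^ i * D.δ ^ i ∈ D.stb θ.1 := by
      have h7 := congrArg (D.ac (D.δ ^ i)) e2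
      rw [← ac_mul, ← ac_mul, mul_inv_cancel, ac_one] at h7
      exact h7.symm
    have h7 : D.δ ^ i ∈ D.stb θ.1 := mem_of_coprime (m := 2) (n := 3) (by rwa [sq])
      (by rw [← pow_mul, mul_comm, pow_mul]; exact pow_mem (D.I_le_stb _ D.δ3) i) (by norm_num)
    exact (hi.trans h7).symm
  change D.fixc M A = _ at h3
  omega

theorem le_sup_cent (hA : D.I ≤ A) : D.C.subgroupOf A ≤
    D.L.subgroupOf A ⊔ centralizer ((D.syl hA : Subgroup ↥A) : Set ↥A) := fun α hα => by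
  obtain ⟨l, l1, l2, τ, t1, t2, h⟩ := D.dec_cent hA α.2 hα
  rw [show α = ⟨l, l2⟩ * ⟨τ, t1⟩ from Subtype.ext h]
  exact mul_mem (mem_sup_left l1) (mem_sup_right fun b hb => Subtype.ext (t2 b ((D.mem_syl hA).1 hb)).symm)

/-- the upper bound -/
theorem k0_le (hM : IsPModular 3 M) (hA : D.I ≤ A) (h : ∀ β ∈ A, β ∈ D.L → β ∈ D.K → β ∈ D.I) : k0 M ↥A ≤ 9 := by
  have := D.nL
  have := D.nC
  have h3 : ¬ 3 ∣ (D.L.subgroupOf A).index := D.L_relIndex A
  by_cases hH : ∀ β ∈ A, β ∈ D.L → β ∈ D.I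
  · have e : D.L.subgroupOf A = D.I.subgroupOf A :=
      le_antisymm (fun (β : ↥A) hβ => hH β.1 β.2 hβ) fun β hβ => D.I_le_L hβ
    have h4 := D.le_sup_cent hA
    rw [e] at h3 h4
    have h5 : D.I.subgroupOf A ≤ D.C.subgroupOf A := fun β hβ => D.I_le_C hβ
    have h6 := D.k0_six hM
    by_cases hC : A ≤ D.C
    · rw [Res.same hM h3 (D.syl hA) (top_le_iff.1 (le_trans (fun β _ => mem_subgroupOf.2 (hC β.2)) h4)), D.k0_N hM hA]
      omega
    · obtain ⟨β, b1, b2⟩ := SetLike.not_le_iff_exists.1 hC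
      have h7 := D.fixc_four hM b1 b2
      have h8 := Res.index_two hM (N := D.C.subgroupOf A)
        (Nat.le_of_dvd two_pos ((relIndex_dvd_index_of_normal _ _).trans D.C_index))
      rw [Res.same_sub hM h3 (D.syl hA) h5 h4, Res.fx_sub hM h3 (D.syl hA) h5 h4, D.k0_N hM hA, D.fx_N hM hA] at h8
      omega
  · push Not at hH
    obtain ⟨β, b1, b2, b3⟩ := hH
    have b4 : β ∉ D.K := fun h4 => b3 (h β b1 b2 h4)
    have b5 := D.L_le_C b2
    -- every element of `A ⊓ L` is a power of `β` modulo `I`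
    obtain ⟨κ, k1, k2⟩ : ∃ κ ∈ D.K, D.q β = D.a * D.q κ ∨ D.q β = D.a⁻¹ * D.q κ := by
      rcases D.decK' b5 b4 with h4 | h4
      · exact ⟨_, h4, .inl (by rw [map_mul, map_inv]; exact (mul_inv_cancel_left _ _).symm)⟩
      · exact ⟨_, h4, .inr (by rw [map_mul]; exact (inv_mul_cancel_left _ _).symm)⟩
    have hc : Commute D.a (D.q κ) := (D.K_cen k1 D.δ).symm
    have hpow : ∀ b ∈ A ⊓ D.L, ∃ i : ℕ, D.q b = D.q β ^ i := by
      intro b hb
      obtain ⟨i, κ', k3, k4⟩ := D.decK (D.L_le_C hb.2)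
      obtain ⟨j, hj⟩ : ∃ j : ℕ, D.q β ^ j = D.a ^ i * D.q κ ^ j := by
        rcases k2 with k2 | k2
        · exact ⟨i, by rw [k2, hc.mul_pow]⟩
        · refine ⟨2 * i, ?_⟩
          rw [k2, hc.inv_left.mul_pow, pow_mul, inv_pow, ← D.a_inv, inv_inv]
      refine ⟨j, ?_⟩
      rw [← map_pow, ← inv_mul_eq_one, ← map_inv, ← map_mul, q_eq_one]
      refine h _ (A.mul_mem (A.inv_mem hb.1) (pow_mem b1 j)) (D.L.mul_mem (D.L.inv_mem hb.2) (pow_mem b2 j))
        (D.mem_of_q D.I_le_K (β' := κ'⁻¹ * κ ^ j) ?_ (mul_mem (inv_mem k3) (pow_mem k1 j)))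
      rw [map_mul, map_mul, map_inv, map_inv, map_pow, map_pow, hj, k4, map_mul, map_pow]
      change (D.a ^ i * D.q κ')⁻¹ * _ = _
      group
    have hcube : β ^ 3 ∈ D.I := by
      refine h _ (pow_mem b1 3) (pow_mem b2 3) (D.mem_of_q D.I_le_K (β' := κ ^ 3) ?_ (pow_mem k1 3))
      rw [map_pow, map_pow]
      rcases k2 with k2 | k2
      · rw [k2, hc.mul_pow, D.a3, one_mul]
      · rw [k2, hc.inv_left.mul_pow, inv_pow, D.a3, inv_one, one_mul]
    have hI : D.I ≤ A ⊓ D.L := le_inf hA D.I_le_L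
    have hidx : D.I.relIndex (A ⊓ D.L) = 3 := D.relIndex_three ⟨b1, b2⟩ b3 hcube hpow
    have e : ↥(D.L.subgroupOf A) ≃* ↥(A ⊓ D.L) :=
      (MulEquiv.subgroupCongr (inf_subgroupOf_left D.L A).symm).trans (subgroupOfEquivOfLe inf_le_left)
    by_cases hG : D.δ ∈ A
    · have e1 : A ⊓ D.L = D.G := by
        refine le_antisymm (fun b hb => ?_) (le_inf (fun g hg => ?_) D.G_le_L)
        · obtain ⟨i, κ', k3, k4⟩ := D.decK (D.L_le_C hb.2)
          have h4 : κ' ∈ A ⊓ D.L := by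
            rw [k4] at hb
            exact ((A ⊓ D.L).mul_mem_cancel_left (pow_mem (mem_inf.2 ⟨hG, D.G_le_L D.δG⟩) i)).1 hb
          rw [k4]
          exact mul_mem (pow_mem D.δG i) (D.I_le (h _ h4.1 h4.2 k3))
        · obtain ⟨i, y, hy, rfl⟩ := D.gen g hg
          exact mul_mem (hA hy) (pow_mem hG i)
      exact (Spor.SmallC.of_normal _ h3 (D.smallC.congr (e.trans (MulEquiv.subgroupCongr e1)).symm)).k0_le hM
    · have hC : A ≤ D.C := fun α hα => by
        have h4 : α * β * α⁻¹ * β⁻¹ ∈ D.I := by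
          by_contra h5
          have h6 : α * β * α⁻¹ * β⁻¹ ∈ A := mul_mem (mul_mem (mul_mem hα b1) (inv_mem hα)) (inv_mem b1)
          rcases D.qG' (D.comm_mem_G α β) h5 with h7 | h7
          · exact hG (D.mem_of_q hA h7.symm h6)
          · exact hG (D.mem_of_q hA (β' := (α * β * α⁻¹ * β⁻¹)⁻¹) (by rw [map_inv, h7, inv_inv]; rfl) (inv_mem h6))
        have h5 : Commute (D.q α) (D.q β) := by
          have h6 := D.q_eq.2 h4
          rwa [map_mul, map_mul, map_inv, mul_inv_eq_iff_eq_mul] at h6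
        have h6 := (h5.mul_right (D.K_cen k1 α).symm.inv_right)
        rw [mem_C]
        rcases k2 with k2 | k2
        · rw [k2, mul_inv_cancel_right] at h6
          exact h6.eq
        · rw [k2, mul_inv_cancel_right] at h6
          exact (Commute.inv_right_iff.1 h6).eq
      rw [Res.same hM h3 (D.syl hA) (top_le_iff.1 (le_trans (fun β _ => mem_subgroupOf.2 (hC β.2)) (D.le_sup_cent hA))),
        Res.k0_congr hM e, D.res3 hM hI hidx]
      have h4 := D.fixc_three hM (A := A ⊓ D.L) ⟨b1, b2⟩ b5 b4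
      omega

theorem up (hM : IsPModular 3 M) (hA : D.I ≤ A) (P : Sylow 3 ↥A) (h : nab P = 9) : k0 M ↥A ≤ 9 := by
  refine D.k0_le hM hA fun β h1 h2 h3 => by_contra fun h4 => ?_
  have h5 := D.le_nab hA h1 h2 h3 h4
  rw [Res.nab_eq _ P] at h5
  omega

theorem lo (hM : IsPModular 3 M) (h1 : One M S) (hA : D.I ≤ A) (hi : ¬ 3 ∣ D.I.relIndex A ∨ D.I.relIndex A = 3)
    (P : Sylow 3 ↥A) (h : 27 ≤ nab P) : 10 ≤ k0 M ↥A := by
  obtain ⟨β, b1, b2, b3, b4⟩ : ∃ β ∈ A, β ∈ D.L ∧ β ∈ D.K ∧ β ∉ D.I := by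
    by_contra h2
    push Not at h2
    have h3 := D.nab_le hA h2
    rw [Res.nab_eq _ P] at h3
    omega
  have h2 : β ^ D.I.relIndex A ∈ D.I := (D.I.subgroupOf A).pow_index_mem ⟨β, b1⟩
  rcases hi with hi | hi
  · obtain ⟨k, hk⟩ := D.pow_mem_I b2
    exact absurd (mem_of_coprime hk h2 (cop3 hi k)) b4
  · have h3 : A ≤ D.K := by
      have h4 := relIndex_mul_relIndex D.I (A ⊓ D.K) A (le_inf hA D.I_le_K) inf_le_left
      rw [hi] at h4
      rcases (Nat.dvd_prime Nat.prime_three).1 (Dvd.intro_left _ h4) with h5 | h5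
      · exact (relIndex_eq_one.1 h5).trans inf_le_right
      · rw [h5] at h4
        exact absurd (relIndex_eq_one.1 (by omega : D.I.relIndex (A ⊓ D.K) = 1) ⟨b1, b3⟩) b4
    rw [D.res3 hM hA hi, D.fixc_K hM h1 h3]
    norm_num

omit [Finite Γ] in
/-- an almost simple group as a subgroup of `Γ` -/
theorem exists_sub {B : Type} [Group B] [Finite B] {N : Subgroup B} (h : AS B N) (e : ↥N ≃* S) :
    ∃ A : Subgroup Γ, D.I ≤ A ∧ D.I.relIndex A = N.index ∧ Nonempty (B ≃* ↥A) := by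
  have := h.normal
  let j : B →* Γ := (D.ψ.symm : MulAut S →* Γ).comp ((MulAut.congr e : MulAut ↥N →* MulAut S).comp MulAut.conjNormal)
  have hj : ∀ n : ↥N, j n = D.ι (e n) := fun n => by
    change D.ψ.symm (MulAut.congr e (MulAut.conjNormal (n : B))) = D.ψ.symm (MulAut.conj (e n))
    rw [Res.conjNormal_coe, Res.congr_conj]
  have hinj : Function.Injective j := by
    rw [injective_iff_map_eq_one]
    intro b hb
    have h1 : (MulAut.conjNormal b : MulAut ↥N) = 1 :=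
      (MulAut.congr e).injective (D.ψ.symm.injective (by rw [map_one, map_one]; exact hb))
    rw [← mem_bot, ← h.cent]
    intro n hn
    have h2 := congrArg (fun σ : MulAut ↥N => ((σ ⟨n, hn⟩ : ↥N) : B)) h1
    exact (mul_inv_eq_iff_eq_mul.1 h2).symm
  have hc : D.I.comap j = N := by
    ext b
    refine ⟨fun hb => ?_, fun hb => ?_⟩
    · obtain ⟨x, hx⟩ := D.exists_ι hb
      obtain ⟨n, rfl⟩ := e.surjective x
      rw [← hinj ((hj n).trans hx)]
      exact n.2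
    · change j (⟨b, hb⟩ : ↥N) ∈ D.I
      rw [hj]
      exact D.ι_mem _
  refine ⟨j.range, fun β hβ => ?_, ?_, ⟨MonoidHom.ofInjective hinj⟩⟩
  · obtain ⟨x, rfl⟩ := D.exists_ι hβ
    obtain ⟨n, rfl⟩ := e.surjective x
    exact ⟨n, hj n⟩
  · rw [← index_comap, hc]

end Dat

/-- the rows from the data -/
theorem row_of_dat {K : Fam} (h : ∀ (S : Type) [Group S] [Finite S], IsSimpleGroup S → ¬ IsMulCommutative S → K S →
    (∃ (Γ : Type) (_ : Group Γ), Nonempty (Dat Γ S)) ∧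
      ∃ α : IrrCharacter S, ¬ 3 ∣ charDegree (α : S → ℂ) ∧ Nontriv α ∧ ∀ σ : MulAut S, Fixes σ α) : Row K := by
  have key : ∀ M, IsPModular 3 M → ∀ (S : Type) [Group S] [Finite S], IsSimpleGroup S → ¬ IsMulCommutative S → K S →
      One M S := fun M hM S _ _ h1 h2 h3 => by
    obtain ⟨⟨Γ, _, ⟨D⟩⟩, α, a1, a2, a3⟩ := h S h1 h2 h3
    obtain ⟨Q, hQ⟩ := D.cp
    exact ⟨α, mem_of_cent hM Q hQ a1, a2, a3⟩
  refine Row.of_one toolOne (fun M hM B _ _ N h1 h2 P hP => ?_) (fun M hM B _ _ N h1 h2 hi P hP => ?_)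
    fun M hM S _ _ h1 h2 _ h3 => key M hM S h1 h2 h3
  · obtain ⟨⟨Γ, _, ⟨D⟩⟩, -⟩ := h ↥N h1.simple h1.nonab h2
    have : Finite Γ := Finite.of_equiv _ D.ψ.symm.toEquiv
    obtain ⟨A, a1, -, ⟨e⟩⟩ := D.exists_sub h1 (MulEquiv.refl _)
    obtain ⟨Q⟩ : Nonempty (Sylow 3 ↥A) := inferInstance
    rw [Res.k0_congr hM e]
    exact D.up hM a1 Q ((Res.nab_equiv e P Q).symm.trans hP)
  · obtain ⟨⟨Γ, _, ⟨D⟩⟩, -⟩ := h ↥N h1.simple h1.nonab h2
    have : Finite Γ := Finite.of_equiv _ D.ψ.symm.toEquiv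
    obtain ⟨A, a1, a2, ⟨e⟩⟩ := D.exists_sub h1 (MulEquiv.refl _)
    obtain ⟨Q⟩ : Nonempty (Sylow 3 ↥A) := inferInstance
    rw [Res.k0_congr hM e]
    exact D.lo hM (key M hM ↥N h1.simple h1.nonab h2) a1 (by rwa [a2]) Q (by rwa [← Res.nab_equiv e P Q])

end Cfsg.Agent.KZ.L3
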