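import Cfsg.Agent.KZ.Tool.Res2
import Cfsg.Agent.KZ.Spor.Gen
import Cfsg.Agent.Lib.SylowNormalInf

/-!
# KZ, `L₃^ε(q)` with `3 ∣ q - ε`: the abstract data and their group theory (helper56)

`Dat Γ S` describes `Γ = Aut S`: inner automorphisms `I`, inner-diagonal automorphisms `G`, the abelian complement `Φ`,
a Sylow `3`-subgroup `P`.
-/

set_option autoImplicit false

namespace Cfsg.Agent.KZ.L3

open Cfsg Subgroup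

/-- the data -/
structure Dat (Γ S : Type) [Group Γ] [Group S] where
  ψ : Γ ≃* MulAut S
  inj : Function.Injective (MulAut.conj : S →* MulAut S)
  I : Subgroup Γ
  G : Subgroup Γ
  Φ : Subgroup Γ
  W : Subgroup Γ
  R : Subgroup Γ
  P : Sylow 3 Γ
  hI : ∀ β, β ∈ I ↔ ∃ s, ψ β = MulAut.conj s
  nG : G.Normal
  I_le : I ≤ G
  dec : ∀ β, ∃ g ∈ G, ∃ τ ∈ Φ, β = g * τ
  comm : ∀ τ ∈ Φ, ∀ τ' ∈ Φ, τ * τ' = τ' * τ
  δ : Γ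
  δG : δ ∈ G
  δI : δ ∉ I
  δP : δ ∈ (P : Subgroup Γ)
  δ3 : δ ^ 3 ∈ I
  gen : ∀ g ∈ G, ∃ i : ℕ, ∃ y ∈ I, g = y * δ ^ i
  γ : Γ
  γΦ : γ ∈ Φ
  γδ : γ * δ * γ⁻¹ * δ ∈ I
  u : S
  cls : ∀ x : S, (∃ g ∈ G, x = ψ g u) ∨ ∃ g ∈ G, g ∉ I ∧ ψ g x = x
  smallC : Spor.SmallC ↥G
  cenP : ∀ τ ∈ Φ, ¬ 3 ∣ orderOf τ → τ * δ * τ⁻¹ * δ⁻¹ ∈ I → ∀ β ∈ (P : Subgroup Γ), τ * β = β * τ
  s : Γ
  d : Γ
  t : Γ
  sI : s ∈ I
  sP : s ∈ (P : Subgroup Γ)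
  dI : d ∈ I
  dP : d ∈ (P : Subgroup Γ)
  s3 : s ^ 3 = 1
  d3 : d ^ 3 = 1
  dcen : ∀ β ∈ (P : Subgroup Γ), β * d = d * β
  csd : ∀ y ∈ I, y * s = s * y → y * d = d * y → ∃ j k : ℕ, y = d ^ j * s ^ k
  cs : ∀ β ∈ (P : Subgroup Γ), β * s = s * β → ∃ y ∈ I, ∃ τ ∈ Φ, τ * δ * τ⁻¹ * δ⁻¹ ∈ I ∧ β = y * τ
  W_comm : ∀ a ∈ (P : Subgroup Γ), ∀ b ∈ (P : Subgroup Γ), a * b * a⁻¹ * b⁻¹ ∈ W
  sW : s ∉ W
  R_comm : ∀ a ∈ (P : Subgroup Γ), ∀ b ∈ (P : Subgroup Γ), (∃ y ∈ I, ∃ τ ∈ Φ, a = y * τ) →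
    (∃ y ∈ I, ∃ τ ∈ Φ, b = y * τ) → a * b * a⁻¹ * b⁻¹ ∈ R
  tI : t ∈ I
  tP : t ∈ (P : Subgroup Γ)
  tW : t ∈ W
  tR : t ∉ R

theorem mem_of_coprime {X : Type*} [Group X] {H : Subgroup X} {β : X} {m n : ℕ} (hm : β ^ m ∈ H) (hn : β ^ n ∈ H)
    (h : m.Coprime n) : β ∈ H := by
  have h1 : β = (β ^ m) ^ (Nat.gcdA m n) * (β ^ n) ^ (Nat.gcdB m n) := by
    rw [← zpow_natCast, ← zpow_natCast, ← zpow_mul, ← zpow_mul, ← zpow_add, ← Nat.gcd_eq_gcd_ab, h]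
    simp
  rw [h1]
  exact H.mul_mem (H.zpow_mem hm _) (H.zpow_mem hn _)

theorem cop3 {m : ℕ} (h : ¬ 3 ∣ m) (k : ℕ) : (3 ^ k).Coprime m :=
  Nat.Coprime.pow_left k ((Nat.Prime.coprime_iff_not_dvd Nat.prime_three).2 h)

/-- the `3`-part and the `3'`-part -/
theorem exists_parts {X : Type*} [Group X] [Finite X] (β : X) : ∃ a b : X, a ∈ zpowers β ∧ b ∈ zpowers β ∧
    (∃ k : ℕ, a ^ 3 ^ k = 1) ∧ ¬ 3 ∣ orderOf b ∧ β = a * b := by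
  obtain ⟨k, m, hm, h⟩ := Nat.exists_eq_pow_mul_and_not_dvd (orderOf_pos β).ne' 3 (by norm_num)
  have hc := cop3 hm k
  refine ⟨(β ^ m) ^ (Nat.gcdB (3 ^ k) m), (β ^ 3 ^ k) ^ (Nat.gcdA (3 ^ k) m),
    zpow_mem (pow_mem (mem_zpowers β) _) _, zpow_mem (pow_mem (mem_zpowers β) _) _, ⟨k, ?_⟩, fun h3 => hm ?_, ?_⟩
  · rw [← zpow_natCast, ← zpow_mul, mul_comm, zpow_mul, zpow_natCast, ← pow_mul, mul_comm m, ← h, pow_orderOf_eq_one,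
      one_zpow]
  · refine h3.trans (orderOf_dvd_of_pow_eq_one ?_)
    rw [← zpow_natCast, ← zpow_mul, mul_comm, zpow_mul, zpow_natCast, ← pow_mul, ← h, pow_orderOf_eq_one, one_zpow]
  · rw [← zpow_natCast, ← zpow_natCast, ← zpow_mul, ← zpow_mul, ← zpow_add, add_comm, ← Nat.gcd_eq_gcd_ab, hc]
    simp

/-- a proper inclusion in a `3`-group -/
theorem three_dvd_relIndex {X : Type*} [Group X] [Finite X] {Q A B : Subgroup X} (hQ : IsPGroup 3 Q) (hB : B ≤ Q)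
    {x : X} (hx : x ∈ B) (hx' : x ∉ A) : 3 ∣ A.relIndex B := by
  have : Fact (Nat.Prime 3) := ⟨Nat.prime_three⟩
  obtain ⟨k, hk⟩ := (hQ.to_le hB).index (A.subgroupOf B)
  change A.relIndex B = 3 ^ k at hk
  rcases k with _ | k
  · exact absurd (relIndex_eq_one.1 hk hx) hx'
  · rw [hk]
    exact dvd_pow_self 3 k.succ_ne_zero

/-- a chain of length three above the derived subgroup -/
theorem le_index_comm {X : Type*} [Group X] [Finite X] {Q R0 R1 R2 : Subgroup X} (hQ : IsPGroup 3 Q) (h01 : R0 ≤ R1)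
    (h12 : R1 ≤ R2) (h2 : R2 ≤ Q) (hc : ∀ a ∈ Q, ∀ b ∈ Q, a * b * a⁻¹ * b⁻¹ ∈ R0) {x1 x2 x3 : X} (m1 : x1 ∈ R1)
    (n1 : x1 ∉ R0) (m2 : x2 ∈ R2) (n2 : x2 ∉ R1) (m3 : x3 ∈ Q) (n3 : x3 ∉ R2) : 27 ≤ (commutator ↥Q).index := by
  have h1 : commutator ↥Q ≤ R0.subgroupOf Q := by
    rw [commutator_def, commutator_le]
    intro a _ b _
    exact hc a a.2 b b.2
  have h3 : R0.relIndex Q ∣ (commutator ↥Q).index := index_dvd_of_le h1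
  have h4 : 27 ∣ R0.relIndex Q := by
    rw [← relIndex_mul_relIndex R0 R2 Q (h01.trans h12) h2, ← relIndex_mul_relIndex R0 R1 R2 h01 h12]
    exact mul_dvd_mul (mul_dvd_mul (three_dvd_relIndex hQ (h12.trans h2) m1 n1) (three_dvd_relIndex hQ h2 m2 n2))
      (three_dvd_relIndex hQ le_rfl m3 n3)
  exact Nat.le_of_dvd (Nat.pos_of_ne_zero index_ne_zero_of_finite) (h4.trans h3)

namespace Dat

variable {Γ S : Type} [Group Γ] [Group S] (D : Dat Γ S)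

/-- the inner automorphism as an element of `Γ` -/
def ι : S →* Γ := (D.ψ.symm : MulAut S →* Γ).comp MulAut.conj

theorem ψ_ι (x : S) : D.ψ (D.ι x) = MulAut.conj x := D.ψ.apply_symm_apply _

theorem ι_inj : Function.Injective D.ι := fun _ _ h => D.inj (D.ψ.symm.injective h)

theorem ι_mem (x : S) : D.ι x ∈ D.I := (D.hI _).2 ⟨x, D.ψ_ι x⟩

theorem exists_ι {β : Γ} (h : β ∈ D.I) : ∃ x, D.ι x = β := by
  obtain ⟨x, hx⟩ := (D.hI _).1 h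
  exact ⟨x, D.ψ.injective ((D.ψ_ι x).trans hx.symm)⟩

theorem ι_ψ (β : Γ) (x : S) : D.ι (D.ψ β x) = β * D.ι x * β⁻¹ := by
  apply D.ψ.injective
  rw [map_mul, map_mul, map_inv, ψ_ι, ψ_ι]
  ext y
  simp [MulAut.conj_apply]

theorem range_ι : D.ι.range = D.I := by
  ext β
  exact ⟨fun ⟨x, hx⟩ => hx ▸ D.ι_mem x, fun h => D.exists_ι h⟩

theorem nI : D.I.Normal := ⟨fun β hβ g => by
  obtain ⟨x, rfl⟩ := D.exists_ι hβ
  rw [← ι_ψ]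
  exact D.ι_mem _⟩

attribute [local instance] nI nG

/-- the projection to the outer automorphism group -/
def q : Γ →* Γ ⧸ D.I := QuotientGroup.mk' D.I

theorem q_eq_one {β : Γ} : D.q β = 1 ↔ β ∈ D.I := QuotientGroup.eq_one_iff β

theorem q_eq {β β' : Γ} : D.q β = D.q β' ↔ β * β'⁻¹ ∈ D.I := by
  rw [← q_eq_one, map_mul, map_inv, mul_inv_eq_one]

theorem mem_of_q {A : Subgroup Γ} (hA : D.I ≤ A) {β β' : Γ} (h : D.q β = D.q β') (h' : β' ∈ A) : β ∈ A := by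
  have h1 := A.mul_mem (hA (D.q_eq.1 h)) h'
  rwa [inv_mul_cancel_right] at h1

/-- the image of `δ` -/
def a : Γ ⧸ D.I := D.q D.δ

theorem a3 : D.a ^ 3 = 1 := by rw [a, ← map_pow, q_eq_one]; exact D.δ3

theorem a_ne : D.a ≠ 1 := fun h => D.δI (D.q_eq_one.1 h)

theorem a_order : orderOf D.a = 3 :=
  haveI : Fact (Nat.Prime 3) := ⟨Nat.prime_three⟩
  orderOf_eq_prime D.a3 D.a_ne

theorem a_inv : D.a⁻¹ = D.a ^ 2 := by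
  rw [inv_eq_iff_mul_eq_one, ← pow_succ']; exact D.a3

theorem a_ne_inv : D.a ≠ D.a⁻¹ := fun h => D.a_ne (by
  have h1 : D.a ^ 2 = 1 := by rw [sq]; nth_rewrite 1 [h]; exact inv_mul_cancel _
  rw [h, a_inv, h1])

theorem a_pow (i : ℕ) : D.a ^ i = 1 ∨ D.a ^ i = D.a ∨ D.a ^ i = D.a⁻¹ := by
  rw [← pow_mod_orderOf, a_order, a_inv]
  have : i % 3 = 0 ∨ i % 3 = 1 ∨ i % 3 = 2 := by omega
  rcases this with h | h | h <;> simp [h]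

theorem qG {g : Γ} (h : g ∈ D.G) : ∃ i : ℕ, D.q g = D.a ^ i := by
  obtain ⟨i, y, hy, rfl⟩ := D.gen g h
  exact ⟨i, by rw [map_mul, D.q_eq_one.2 hy, one_mul, map_pow]; rfl⟩

theorem mem_G {g : Γ} {i : ℕ} (h : D.q g = D.a ^ i) : g ∈ D.G :=
  D.mem_of_q D.I_le (β' := D.δ ^ i) (by rw [h, map_pow]; rfl) (D.G.pow_mem D.δG i)

theorem qG' {g : Γ} (h : g ∈ D.G) (h' : g ∉ D.I) : D.q g = D.a ∨ D.q g = D.a⁻¹ := by
  obtain ⟨i, hi⟩ := D.qG h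
  rcases D.a_pow i with h1 | h1 | h1
  · exact absurd (D.q_eq_one.1 (hi.trans h1)) h'
  · exact .inl (hi.trans h1)
  · exact .inr (hi.trans h1)

theorem conj_a (β : Γ) : D.q β * D.a * (D.q β)⁻¹ = D.a ∨ D.q β * D.a * (D.q β)⁻¹ = D.a⁻¹ := by
  have h := D.qG' (D.nG.conj_mem _ D.δG β) fun h => D.δI (by simpa [mul_assoc] using D.nI.conj_mem _ h β⁻¹)
  rwa [map_mul, map_mul, map_inv] at h

/-- the centraliser of `δ` modulo `I` -/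
def C : Subgroup Γ := (centralizer {D.a}).comap D.q

theorem mem_C {β : Γ} : β ∈ D.C ↔ D.q β * D.a = D.a * D.q β := mem_centralizer_singleton_iff

theorem mem_C' {β : Γ} : β ∈ D.C ↔ β * D.δ * β⁻¹ * D.δ⁻¹ ∈ D.I := by
  rw [mem_C, ← q_eq, map_mul, map_mul, map_inv, mul_inv_eq_iff_eq_mul]
  rfl

theorem inv_of_not_C {β : Γ} (h : β ∉ D.C) : D.q β * D.a * (D.q β)⁻¹ = D.a⁻¹ :=
  (D.conj_a β).resolve_left fun h1 => h (D.mem_C.2 (mul_inv_eq_iff_eq_mul.1 h1))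

theorem G_le_C : D.G ≤ D.C := fun g hg => by
  obtain ⟨i, hi⟩ := D.qG hg
  rw [mem_C, hi]
  exact (Commute.pow_self _ _).eq

theorem I_le_C : D.I ≤ D.C := D.I_le.trans D.G_le_C

theorem γ_inv : D.q D.γ * D.a * (D.q D.γ)⁻¹ = D.a⁻¹ := by
  have h := D.q_eq_one.2 D.γδ
  rw [map_mul, map_mul, map_mul, map_inv] at h
  exact eq_inv_of_mul_eq_one_left h

theorem mul_mem_C {β β' : Γ} (h : β ∉ D.C) (h' : β' ∉ D.C) : β * β' ∈ D.C := by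
  have h1 := D.inv_of_not_C h
  have h2 := D.inv_of_not_C h'
  rw [mem_C, map_mul, ← mul_inv_eq_iff_eq_mul]
  calc D.q β * D.q β' * D.a * (D.q β * D.q β')⁻¹ = D.q β * (D.q β' * D.a * (D.q β')⁻¹) * (D.q β)⁻¹ := by group
    _ = (D.q β * D.a * (D.q β)⁻¹)⁻¹ := by rw [h2]; group
    _ = D.a := by rw [h1, inv_inv]

theorem γ_not_C : D.γ ∉ D.C := fun h =>
  D.a_ne_inv ((mul_inv_eq_iff_eq_mul.2 (D.mem_C.1 h)).symm.trans D.γ_inv)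

theorem C_index : D.C.index ∣ 2 :=
  index_dvd_two_iff.2 ⟨D.γ, fun b => (em (b ∈ D.C)).symm.imp_left fun h => D.mul_mem_C h D.γ_not_C⟩

theorem sq_mem_C (β : Γ) : β ^ 2 ∈ D.C := by
  by_cases h : β ∈ D.C
  · exact D.C.pow_mem h 2
  · rw [sq]; exact D.mul_mem_C h h

theorem nC : D.C.Normal := ⟨fun β hβ g => by
  by_cases h : g ∈ D.C
  · exact D.C.mul_mem (D.C.mul_mem h hβ) (D.C.inv_mem h)
  · exact D.mul_mem_C (fun h1 => h ((D.C.mul_mem_cancel_right hβ).1 h1)) fun h1 => h (D.C.inv_mem_iff.1 h1)⟩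

theorem mem_C_of_pow {β : Γ} {k : ℕ} (h : β ^ 3 ^ k ∈ D.C) : β ∈ D.C :=
  mem_of_coprime h (D.sq_mem_C β) (cop3 (by norm_num) k)

theorem P_le_C : (D.P : Subgroup Γ) ≤ D.C := fun β hβ => by
  obtain ⟨k, hk⟩ := D.P.2 ⟨β, hβ⟩
  exact D.mem_C_of_pow (k := k) (by rw [show β ^ 3 ^ k = 1 from congrArg Subtype.val hk]; exact D.C.one_mem)

/-- the subgroup which fixes all members -/
def K : Subgroup Γ := ((D.Φ ⊓ D.C).map D.q).comap D.q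

theorem mem_K {β : Γ} : β ∈ D.K ↔ ∃ τ ∈ D.Φ, τ ∈ D.C ∧ D.q β = D.q τ :=
  ⟨fun ⟨τ, h1, h2⟩ => ⟨τ, h1.1, h1.2, h2.symm⟩, fun ⟨τ, h1, h2, h3⟩ => ⟨τ, ⟨h1, h2⟩, h3.symm⟩⟩

theorem I_le_K : D.I ≤ D.K := fun _ h => D.mem_K.2 ⟨1, D.Φ.one_mem, D.C.one_mem, by rw [D.q_eq_one.2 h, map_one]⟩

theorem K_le_C : D.K ≤ D.C := fun _ h => by
  obtain ⟨τ, -, h2, h3⟩ := D.mem_K.1 h
  exact D.mem_of_q D.I_le_C h3 h2

theorem mem_K_of {τ : Γ} (h : τ ∈ D.Φ) (h' : τ ∈ D.C) : τ ∈ D.K := D.mem_K.2 ⟨τ, h, h', rfl⟩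

theorem decq (β : Γ) : ∃ i : ℕ, ∃ τ ∈ D.Φ, D.q β = D.a ^ i * D.q τ := by
  obtain ⟨g, hg, τ, hτ, rfl⟩ := D.dec β
  obtain ⟨i, hi⟩ := D.qG hg
  exact ⟨i, τ, hτ, by rw [map_mul, hi]⟩

theorem decC {β : Γ} (h : β ∈ D.C) : ∃ i : ℕ, ∃ τ ∈ D.Φ, τ ∈ D.C ∧ D.q β = D.a ^ i * D.q τ := by
  obtain ⟨g, hg, τ, hτ, rfl⟩ := D.dec β
  obtain ⟨i, hi⟩ := D.qG hg
  exact ⟨i, τ, hτ, (D.C.mul_mem_cancel_left (D.G_le_C hg)).1 h, by rw [map_mul, hi]⟩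

/-- the image of `K` is central -/
theorem K_cen {κ : Γ} (h : κ ∈ D.K) (α : Γ) : Commute (D.q κ) (D.q α) := by
  obtain ⟨τ, h1, h2, h3⟩ := D.mem_K.1 h
  obtain ⟨i, τ', h4, h5⟩ := D.decq α
  rw [h3, h5]
  refine Commute.mul_right (Commute.pow_right (D.mem_C.1 h2) i) ?_
  change D.q τ * D.q τ' = D.q τ' * D.q τ
  rw [← map_mul, ← map_mul, D.comm τ h1 τ' h4]

theorem nK : D.K.Normal := ⟨fun β hβ g => D.mem_of_q D.I_le_K (by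
  rw [map_mul, map_mul, map_inv, ← (D.K_cen hβ g).eq, mul_inv_cancel_right]) hβ⟩

theorem commC {β β' : Γ} (h : β ∈ D.C) (h' : β' ∈ D.C) : Commute (D.q β) (D.q β') := by
  obtain ⟨i, τ, h1, h2, h3⟩ := D.decC h
  rw [h3]
  exact Commute.mul_left (Commute.pow_left (Commute.symm (D.mem_C.1 h')) i) (D.K_cen (D.mem_K_of h1 h2) β')

theorem comm_mem_I {β β' : Γ} (h : β ∈ D.C) (h' : β' ∈ D.C) : β * β' * β⁻¹ * β'⁻¹ ∈ D.I := by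
  rw [← q_eq, map_mul, map_mul, map_inv, (D.commC h h').eq, mul_inv_cancel_right]

theorem mem_I_of_GK {β : Γ} (h : β ∈ D.G) (h' : β ∈ D.K) : β ∈ D.I := by
  by_contra h1
  have h2 := (D.K_cen h' D.γ).eq
  rcases D.qG' h h1 with h3 | h3
  · rw [h3] at h2
    exact D.γ_not_C (D.mem_C.2 h2.symm)
  · rw [h3] at h2
    exact D.γ_not_C (D.mem_C.2 (Commute.inv_left_iff.1 h2).symm.eq)

theorem δ_not_K : D.δ ∉ D.K := fun h => D.δI (D.mem_I_of_GK D.δG h)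

theorem decK {β : Γ} (h : β ∈ D.C) : ∃ i : ℕ, ∃ κ ∈ D.K, β = D.δ ^ i * κ := by
  obtain ⟨i, τ, h1, h2, h3⟩ := D.decC h
  refine ⟨i, (D.δ ^ i)⁻¹ * β, D.mem_K.2 ⟨τ, h1, h2, ?_⟩, by group⟩
  rw [map_mul, map_inv, map_pow, h3]
  exact inv_mul_cancel_left _ _

theorem decK' {β : Γ} (h : β ∈ D.C) (h' : β ∉ D.K) : D.δ⁻¹ * β ∈ D.K ∨ D.δ * β ∈ D.K := by
  obtain ⟨i, κ, h1, rfl⟩ := D.decK h
  have h2 : D.q (D.δ ^ i) = D.a ^ i := map_pow _ _ _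
  rcases D.a_pow i with h3 | h3 | h3
  · exact absurd (D.K.mul_mem (D.I_le_K (D.q_eq_one.1 (h2.trans h3))) h1) h'
  · refine .inl (D.mem_of_q D.I_le_K ?_ h1)
    rw [map_mul, map_mul, map_inv, h2, h3]
    exact inv_mul_cancel_left _ _
  · refine .inr (D.mem_of_q D.I_le_K ?_ h1)
    rw [map_mul, map_mul, h2, h3]
    exact mul_inv_cancel_left _ _

theorem comm_mem_G (α β : Γ) : α * β * α⁻¹ * β⁻¹ ∈ D.G := by
  obtain ⟨g, hg, τ, hτ, rfl⟩ := D.dec α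
  obtain ⟨g', hg', τ', hτ', rfl⟩ := D.dec β
  rw [← QuotientGroup.eq_one_iff]
  have h1 : ((g : Γ) : Γ ⧸ D.G) = 1 := (QuotientGroup.eq_one_iff _).2 hg
  have h2 : ((g' : Γ) : Γ ⧸ D.G) = 1 := (QuotientGroup.eq_one_iff _).2 hg'
  have h3 : ((τ : Γ) : Γ ⧸ D.G) * τ' = τ' * τ := by
    rw [← QuotientGroup.mk_mul, ← QuotientGroup.mk_mul, D.comm τ hτ τ' hτ']
  simp only [QuotientGroup.mk_mul, QuotientGroup.mk_inv, h1, h2, one_mul]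
  rw [h3]
  group

/-- the preimage of the Sylow subgroup of the outer automorphism group -/
def L : Subgroup Γ := ((D.P : Subgroup Γ).map D.q).comap D.q

theorem mem_L {β : Γ} : β ∈ D.L ↔ ∃ π ∈ (D.P : Subgroup Γ), D.q β = D.q π :=
  ⟨fun ⟨π, h1, h2⟩ => ⟨π, h1, h2.symm⟩, fun ⟨π, h1, h2⟩ => ⟨π, h1, h2.symm⟩⟩

theorem P_le_L : (D.P : Subgroup Γ) ≤ D.L := fun π h => D.mem_L.2 ⟨π, h, rfl⟩

theorem I_le_L : D.I ≤ D.L := fun _ h => D.mem_L.2 ⟨1, one_mem _, by rw [D.q_eq_one.2 h, map_one]⟩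

theorem G_le_L : D.G ≤ D.L := fun g hg => by
  obtain ⟨i, hi⟩ := D.qG hg
  exact D.mem_L.2 ⟨D.δ ^ i, pow_mem D.δP i, by rw [hi, map_pow]; rfl⟩

theorem L_le_C : D.L ≤ D.C := fun _ h => by
  obtain ⟨π, h1, h2⟩ := D.mem_L.1 h
  exact D.mem_of_q D.I_le_C h2 (D.P_le_C h1)

theorem nL : D.L.Normal := ⟨fun β hβ g => by
  have h := D.L.mul_mem (D.G_le_L (D.comm_mem_G g β)) hβ
  rwa [inv_mul_cancel_right] at h⟩

theorem pow_mem_I {β : Γ} (h : β ∈ D.L) : ∃ k : ℕ, β ^ 3 ^ k ∈ D.I := by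
  obtain ⟨π, h1, h2⟩ := D.mem_L.1 h
  obtain ⟨k, hk⟩ := D.P.2 ⟨π, h1⟩
  refine ⟨k, D.q_eq_one.1 ?_⟩
  rw [map_pow, h2, ← map_pow, show π ^ 3 ^ k = 1 from congrArg Subtype.val hk, map_one]

variable [Finite Γ]

theorem L_index : ¬ 3 ∣ D.L.index := fun h =>
  haveI : Fact (Nat.Prime 3) := ⟨Nat.prime_three⟩
  D.P.not_dvd_index (h.trans (index_dvd_of_le D.P_le_L))

theorem mem_L_of_pow {β : Γ} {k : ℕ} (h : β ^ 3 ^ k ∈ D.L) : β ∈ D.L :=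
  haveI := D.nL
  mem_of_coprime h (D.L.pow_index_mem β) (cop3 D.L_index k)

theorem L_relIndex (A : Subgroup Γ) : ¬ 3 ∣ D.L.relIndex A := fun h =>
  haveI := D.nL
  D.L_index (h.trans (relIndex_dvd_index_of_normal _ _))

variable {A : Subgroup Γ}

omit [Finite Γ] in
theorem exists_P (hA : D.I ≤ A) {β : Γ} (h : β ∈ A) (h' : β ∈ D.L) :
    ∃ π ∈ (D.P : Subgroup Γ), π ∈ A ∧ D.q β = D.q π := by
  obtain ⟨π, h1, h2⟩ := D.mem_L.1 h'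
  exact ⟨π, h1, D.mem_of_q hA h2.symm h, h2⟩

/-- the Sylow subgroup of an overgroup of `I` -/
def syl (hA : D.I ≤ A) : Sylow 3 ↥A where
  toSubgroup := ((D.P : Subgroup Γ) ⊓ A).subgroupOf A
  isPGroup' := (D.P.2.to_inf_left).comap_subtype
  is_maximal' := by
    intro Q hQ hle
    have : Fact (Nat.Prime 3) := ⟨Nat.prime_three⟩
    refine le_antisymm (fun β hβ => ?_) hle
    obtain ⟨k, hk⟩ := hQ ⟨β, hβ⟩
    have h1 : (β : Γ) ^ 3 ^ k = 1 := congrArg (fun z : ↥Q => ((z : ↥A) : Γ)) hk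
    obtain ⟨π, h2, h3, h4⟩ := D.exists_P hA β.2 (D.mem_L_of_pow (k := k) (by rw [h1]; exact one_mem _))
    have h5 : (β : Γ) * π⁻¹ ∈ D.I := D.q_eq.1 h4
    have h6 : (⟨π, h3⟩ : ↥A) ∈ Q := hle ⟨h2, h3⟩
    have h7 : IsPGroup 3 ((Q.map A.subtype).subgroupOf D.I) := (hQ.map _).comap_subtype
    have h8 := (IsPGroup.toSylow (D.P.2.comap_subtype (K := D.I))
      (Lib.SylowNormalInf.not_dvd_relIndex D.P D.I)).is_maximal' h7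
      (fun y hy => ⟨⟨y, hA y.2⟩, hle ⟨hy, hA y.2⟩, rfl⟩)
    have h9 : (⟨β * π⁻¹, h5⟩ : ↥D.I) ∈ (Q.map A.subtype).subgroupOf D.I :=
      ⟨β * (⟨π, h3⟩ : ↥A)⁻¹, Q.mul_mem hβ (Q.inv_mem h6), rfl⟩
    rw [h8] at h9
    have h10 := mul_mem (show (β : Γ) * π⁻¹ ∈ (D.P : Subgroup Γ) from h9) h2
    rw [inv_mul_cancel_right] at h10
    exact ⟨h10, β.2⟩

theorem mem_syl (hA : D.I ≤ A) {β : ↥A} : β ∈ (D.syl hA : Subgroup ↥A) ↔ (β : Γ) ∈ (D.P : Subgroup Γ) :=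
  ⟨fun h => h.1, fun h => ⟨h, β.2⟩⟩

theorem nab_syl (hA : D.I ≤ A) : nab (D.syl hA) = (commutator ↥((D.P : Subgroup Γ) ⊓ A)).index :=
  Res.index_comm_congr (subgroupOfEquivOfLe inf_le_right)

/-- the part of `A` in `C` is generated by `A ⊓ L` and the centraliser of the Sylow subgroup -/
theorem dec_cent (hA : D.I ≤ A) {α : Γ} (h : α ∈ A) (h' : α ∈ D.C) :
    ∃ l ∈ D.L, l ∈ A ∧ ∃ τ ∈ A, (∀ β ∈ (D.P : Subgroup Γ), τ * β = β * τ) ∧ α = l * τ := by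
  obtain ⟨g, hg, τ, hτ, rfl⟩ := D.dec α
  have h1 : τ ∈ D.C := (D.C.mul_mem_cancel_left (D.G_le_C hg)).1 h'
  obtain ⟨b, c, hb, hc, ⟨k, hk⟩, hc3, rfl⟩ := exists_parts τ
  have h2 : c ∈ D.Φ := (zpowers_le.2 hτ) hc
  have h3 : c ∈ D.C := (zpowers_le.2 h1) hc
  have h4 : g * b ∈ D.L := D.L.mul_mem (D.G_le_L hg) (D.mem_L_of_pow (k := k) (by rw [hk]; exact one_mem _))
  obtain ⟨j, hj⟩ := D.pow_mem_I h4
  have h5 : c ^ 3 ^ j ∈ A := by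
    refine D.mem_of_q hA (β' := (g * (b * c)) ^ 3 ^ j) ?_ (pow_mem h _)
    rw [← mul_assoc, map_pow D.q (g * b * c), map_mul D.q (g * b), (D.commC (D.L_le_C h4) h3).mul_pow, ← map_pow,
      ← map_pow, D.q_eq_one.2 hj, one_mul]
  have h6 : c ∈ A := mem_of_coprime h5 (by rw [pow_orderOf_eq_one]; exact one_mem _) (cop3 hc3 j)
  refine ⟨g * b, h4, ?_, c, h6, D.cenP c h2 hc3 (D.mem_C'.1 h3), (mul_assoc _ _ _).symm⟩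
  rw [← mul_assoc] at h
  exact (A.mul_mem_cancel_right h6).1 h

omit [Finite Γ] in
theorem card_dk : Nat.card ↥{y : Γ | ∃ j k : ℕ, y = D.d ^ j * D.s ^ k} ≤ 9 := by
  have h : Function.Surjective (fun x : Fin 3 × Fin 3 =>
      (⟨D.d ^ (x.1 : ℕ) * D.s ^ (x.2 : ℕ), _, _, rfl⟩ : ↥{y : Γ | ∃ j k : ℕ, y = D.d ^ j * D.s ^ k})) := by
    rintro ⟨_, j, k, rfl⟩
    refine ⟨(⟨j % 3, Nat.mod_lt _ (by norm_num)⟩, ⟨k % 3, Nat.mod_lt _ (by norm_num)⟩), Subtype.ext ?_⟩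
    change D.d ^ (j % 3) * D.s ^ (k % 3) = D.d ^ j * D.s ^ k
    rw [← pow_eq_pow_mod j D.d3, ← pow_eq_pow_mod k D.s3]
  exact (Nat.card_le_card_of_surjective _ h).trans (by simp)

/-- the small case -/
theorem nab_le (hA : D.I ≤ A) (h : ∀ β ∈ A, β ∈ D.L → β ∈ D.K → β ∈ D.I) : nab (D.syl hA) ≤ 9 := by
  rw [nab_syl]
  refine (Spor.comm_index_le (⟨D.s, D.sP, hA D.sI⟩ : ↥((D.P : Subgroup Γ) ⊓ A))).trans (le_trans ?_ D.card_dk)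
  refine Nat.card_le_card_of_injective (fun y => ⟨y.1.1, ?_⟩) fun y y' e =>
    Subtype.ext (Subtype.ext (Subtype.mk.inj e))
  have h1 : y.1.1 * D.s = D.s * y.1.1 := congrArg Subtype.val (mem_centralizer_singleton_iff.1 y.2)
  obtain ⟨z, hz, τ, h2, h3, h4⟩ := D.cs _ y.1.2.1 h1
  refine D.csd _ (h _ y.1.2.2 (D.P_le_L y.1.2.1) ?_) h1 (D.dcen _ y.1.2.1)
  rw [h4]
  exact D.K.mul_mem (D.I_le_K hz) (D.mem_K_of h2 (D.mem_C'.2 h3))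

/-- the big case -/
theorem le_nab (hA : D.I ≤ A) {β : Γ} (h1 : β ∈ A) (h2 : β ∈ D.L) (h3 : β ∈ D.K) (h4 : β ∉ D.I) :
    27 ≤ nab (D.syl hA) := by
  rw [nab_syl]
  obtain ⟨π, p1, p2, p3⟩ := D.exists_P hA h1 h2
  have p4 : π ∈ D.K := D.mem_of_q D.I_le_K p3.symm h3
  have p5 : π ∉ D.I := fun h => h4 (D.mem_of_q le_rfl p3 h)
  have hQ : IsPGroup 3 ↥((D.P : Subgroup Γ) ⊓ A) := D.P.2.to_inf_left
  have cm : ∀ a ∈ (D.P : Subgroup Γ) ⊓ A, ∀ b ∈ (D.P : Subgroup Γ) ⊓ A, a * b * a⁻¹ * b⁻¹ ∈ (D.P : Subgroup Γ) ⊓ A :=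
    fun a ha b hb => mul_mem (mul_mem (mul_mem ha hb) (inv_mem ha)) (inv_mem hb)
  by_cases hK : (D.P : Subgroup Γ) ⊓ A ≤ D.K
  · have key : ∀ b ∈ (D.P : Subgroup Γ) ⊓ A, ∃ y ∈ D.I, ∃ τ ∈ D.Φ, b = y * τ := fun b hb => by
      obtain ⟨τ, t1, -, t2⟩ := D.mem_K.1 (hK hb)
      exact ⟨b * τ⁻¹, D.q_eq.1 t2, τ, t1, by group⟩
    exact le_index_comm (R0 := (D.P : Subgroup Γ) ⊓ A ⊓ D.I ⊓ D.W ⊓ D.R) (R1 := (D.P : Subgroup Γ) ⊓ A ⊓ D.I ⊓ D.W)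
      (R2 := (D.P : Subgroup Γ) ⊓ A ⊓ D.I) hQ inf_le_left inf_le_left inf_le_left
      (fun a ha b hb => ⟨⟨⟨cm a ha b hb,
        D.comm_mem_I (D.P_le_C ha.1) (D.P_le_C hb.1)⟩, D.W_comm a ha.1 b hb.1⟩,
        D.R_comm a ha.1 b hb.1 (key a ha) (key b hb)⟩)
      (x1 := D.t) ⟨⟨⟨D.tP, hA D.tI⟩, D.tI⟩, D.tW⟩ (fun h => D.tR h.2)
      (x2 := D.s) ⟨⟨D.sP, hA D.sI⟩, D.sI⟩ (fun h => D.sW h.2) (x3 := π) ⟨p1, p2⟩ fun h => p5 h.2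
  · obtain ⟨b, b1, b2⟩ := SetLike.not_le_iff_exists.1 hK
    exact le_index_comm (R0 := (D.P : Subgroup Γ) ⊓ A ⊓ D.K ⊓ D.I ⊓ D.W) (R1 := (D.P : Subgroup Γ) ⊓ A ⊓ D.K ⊓ D.I)
      (R2 := (D.P : Subgroup Γ) ⊓ A ⊓ D.K) hQ inf_le_left inf_le_left inf_le_left
      (fun a ha b hb => ⟨⟨⟨cm a ha b hb,
        D.I_le_K (D.comm_mem_I (D.P_le_C ha.1) (D.P_le_C hb.1))⟩,
        D.comm_mem_I (D.P_le_C ha.1) (D.P_le_C hb.1)⟩, D.W_comm a ha.1 b hb.1⟩)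
      (x1 := D.s) ⟨⟨⟨D.sP, hA D.sI⟩, D.I_le_K D.sI⟩, D.sI⟩ (fun h => D.sW h.2)
      (x2 := π) ⟨⟨p1, p2⟩, p4⟩ (fun h => p5 h.2) (x3 := b) b1 fun h => b2 h.2

include D in
theorem nine_dvd : 9 ∣ Nat.card S := by
  have hQ : IsPGroup 3 ↥((D.P : Subgroup Γ) ⊓ D.I) := D.P.2.to_inf_left
  have h1 : 3 ∣ (⊥ : Subgroup Γ).relIndex ((D.P : Subgroup Γ) ⊓ D.I ⊓ D.W) :=
    three_dvd_relIndex hQ inf_le_left (x := D.t) ⟨⟨D.tP, D.tI⟩, D.tW⟩ fun h => D.tR (by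
      rw [mem_bot.1 h]; exact one_mem _)
  have h2 : 3 ∣ ((D.P : Subgroup Γ) ⊓ D.I ⊓ D.W).relIndex ((D.P : Subgroup Γ) ⊓ D.I) :=
    three_dvd_relIndex hQ le_rfl (x := D.s) ⟨D.sP, D.sI⟩ fun h => D.sW h.2
  have h3 := mul_dvd_mul h1 h2
  rw [relIndex_mul_relIndex _ _ _ bot_le inf_le_left, relIndex_bot_left] at h3
  rw [Nat.card_congr (MonoidHom.ofInjective D.ι_inj).toEquiv, range_ι]
  exact h3.trans (card_dvd_of_le inf_le_right)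

omit [Finite Γ] in
include D in
/-- the centraliser of a Sylow `3`-subgroup of `S` is a `3`-group -/
theorem cp : ∃ Q : Sylow 3 S, ∀ x ∈ centralizer ((Q : Subgroup S) : Set S), ¬ 3 ∣ orderOf x → x = 1 := by
  obtain ⟨Q, hQ⟩ := (D.P.2.comap_of_injective D.ι D.ι_inj).exists_le_sylow
  obtain ⟨s0, hs⟩ := D.exists_ι D.sI
  obtain ⟨d0, hd⟩ := D.exists_ι D.dI
  refine ⟨Q, fun x hx h3 => ?_⟩
  have h1 := congrArg D.ι (hx s0 (hQ (show D.ι s0 ∈ (D.P : Subgroup Γ) from hs ▸ D.sP)))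
  have h2 := congrArg D.ι (hx d0 (hQ (show D.ι d0 ∈ (D.P : Subgroup Γ) from hd ▸ D.dP)))
  rw [map_mul, map_mul, hs] at h1
  rw [map_mul, map_mul, hd] at h2
  obtain ⟨j, k, h⟩ := D.csd _ (D.ι_mem x) h1.symm h2.symm
  have h4 : x ^ 3 = 1 := D.ι_inj (by
    have hc : Commute (D.d ^ j) (D.s ^ k) := Commute.pow_pow (D.dcen _ D.sP).symm j k
    rw [map_pow, h, hc.mul_pow, ← pow_mul, ← pow_mul, mul_comm j, mul_comm k, pow_mul, pow_mul, D.d3, D.s3, map_one]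
    simp)
  exact orderOf_eq_one_iff.1 (((Nat.Prime.coprime_iff_not_dvd Nat.prime_three).2 h3).symm.eq_one_of_dvd
    (orderOf_dvd_of_pow_eq_one h4))

omit [Finite Γ] in
/-- an index three -/
theorem relIndex_three {H : Subgroup Γ} {β : Γ} (h1 : β ∈ H) (h2 : β ∉ D.I) (h3 : β ^ 3 ∈ D.I)
    (h4 : ∀ b ∈ H, ∃ i : ℕ, D.q b = D.q β ^ i) : D.I.relIndex H = 3 := by
  have : Fact (Nat.Prime 3) := ⟨Nat.prime_three⟩
  have h5 : orderOf (D.q β) = 3 := orderOf_eq_prime (by rw [← map_pow, q_eq_one]; exact h3) fun h => h2 (D.q_eq_one.1 h)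
  have h6 : H.map D.q = zpowers (D.q β) := le_antisymm (by
    rintro _ ⟨b, hb, rfl⟩
    obtain ⟨i, hi⟩ := h4 b hb
    rw [hi]
    exact pow_mem (mem_zpowers _) i) (zpowers_le.2 ⟨β, h1, rfl⟩)
  have h7 : D.q.ker = D.I := QuotientGroup.ker_mk' _
  rw [← h7, relIndex_ker, h6, Nat.card_zpowers, h5]

omit [Finite Γ] in
theorem relIndex_G : D.I.relIndex D.G = 3 := D.relIndex_three D.δG D.δI D.δ3 fun _ hb => D.qG hb

end Dat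

end Cfsg.Agent.KZ.L3
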