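import Mathlib

/-!
# KZ, `L₃^ε(q)` with `3 ∣ q - ε`: `3 × 3` matrices (helper56)

`U` is the flag "unitary", `b` the involution of the field, `st` the conjugate transpose.
`cls`: a matrix of determinant one is a scalar times a regular unipotent matrix or commutes with a matrix of determinant `ζ`;
`reg_conj`: regular unipotent matrices are conjugate.
-/

set_option autoImplicit false

namespace Cfsg.Agent.KZ.L3

open Matrix Polynomial

variable {K : Type} [Field K]

/-- the matrices -/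
abbrev M3 (K : Type) : Type := Matrix (Fin 3) (Fin 3) K

theorem adj_eq (E : M3 K) : adjugate E = E * E - trace E • E + trace (adjugate E) • (1 : M3 K) := by
  ext i j
  fin_cases i <;> fin_cases j <;> simp [adjugate_fin_three, trace_fin_three, mul_apply, Fin.sum_univ_three] <;> ring

theorem det_one_add (E : M3 K) (c : K) :
    det (1 + c • E) = 1 + c * trace E + c ^ 2 * trace (adjugate E) + c ^ 3 * det E := by
  simp [det_fin_three, adjugate_fin_three, trace_fin_three]
  ring

theorem det_sub (y : M3 K) (r : K) :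
    det (r • (1 : M3 K) - y) = r ^ 3 - trace y * r ^ 2 + trace (adjugate y) * r - det y := by
  simp [det_fin_three, adjugate_fin_three, trace_fin_three]
  ring

theorem tr_adj_sub (y : M3 K) (r : K) :
    trace (adjugate (r • (1 : M3 K) - y)) = 3 * r ^ 2 - 2 * trace y * r + trace (adjugate y) := by
  simp [adjugate_fin_three, trace_fin_three]
  ring

theorem det_of_adj {E : M3 K} (h : adjugate E = 0) : det E = 0 := by
  have h1 := congrFun (congrFun (mul_adjugate E) 0) 0
  rw [h, Matrix.mul_zero] at h1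
  simpa using h1.symm

theorem cross_col {N : M3 K} (h : adjugate N = 0) (j k : Fin 3) : crossProduct (Nᵀ j) (Nᵀ k) = 0 := by
  rw [adjugate_fin_three] at h
  have h00 := congrFun (congrFun h 0) 0
  have h01 := congrFun (congrFun h 0) 1
  have h02 := congrFun (congrFun h 0) 2
  have h10 := congrFun (congrFun h 1) 0
  have h11 := congrFun (congrFun h 1) 1
  have h12 := congrFun (congrFun h 1) 2
  have h20 := congrFun (congrFun h 2) 0
  have h21 := congrFun (congrFun h 2) 1
  have h22 := congrFun (congrFun h 2) 2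
  simp at h00 h01 h02 h10 h11 h12 h20 h21 h22
  ext i
  fin_cases j <;> fin_cases k <;> fin_cases i <;> simp [cross_apply] <;>
    first
      | ring1
      | linear_combination h00 | linear_combination h01 | linear_combination h02
      | linear_combination h10 | linear_combination h11 | linear_combination h12
      | linear_combination h20 | linear_combination h21 | linear_combination h22
      | linear_combination -h00 | linear_combination -h01 | linear_combination -h02
      | linear_combination -h10 | linear_combination -h11 | linear_combination -h12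
      | linear_combination -h20 | linear_combination -h21 | linear_combination -h22

theorem adj_vecMulVec (c d : Fin 3 → K) : adjugate (vecMulVec c d) = 0 := by
  ext i j
  fin_cases i <;> fin_cases j <;> simp [adjugate_fin_three, vecMulVec_apply] <;> ring

/-- the Krylov matrix -/
def kr (y : M3 K) (v : Fin 3 → K) : M3 K := (of ![v, y *ᵥ v, (y * y) *ᵥ v])ᵀ

theorem kr_mulVec (y : M3 K) (v w : Fin 3 → K) :
    kr y v *ᵥ w = w 0 • v + w 1 • y *ᵥ v + w 2 • (y * y) *ᵥ v := by
  ext i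
  simp [kr, mulVec, dotProduct, Fin.sum_univ_three, mul_comm]

theorem ext_vec {A B : M3 K} (h : ∀ w, A *ᵥ w = B *ᵥ w) : A = B := toLin'.injective (LinearMap.ext h)

theorem schur {y h : M3 K} (hf : Irreducible y.charpoly) (hc : h * y = y * h) (hd : det h = 0) : h = 0 := by
  obtain ⟨v, hv, h1⟩ := exists_mulVec_eq_zero_iff.2 hd
  have h2 : h * kr y v = 0 := ext_vec fun w => by
    rw [← mulVec_mulVec, kr_mulVec, mulVec_add, mulVec_add, mulVec_smul, mulVec_smul, mulVec_smul, mulVec_mulVec,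
      mulVec_mulVec, ← Matrix.mul_assoc, hc, Matrix.mul_assoc, hc, ← mulVec_mulVec, ← mulVec_mulVec, ← mulVec_mulVec, h1]
    simp
  by_cases h3 : det (kr y v) = 0
  · obtain ⟨w, hw, h4⟩ := exists_mulVec_eq_zero_iff.2 h3
    have h5 : (C (w 2) * X ^ 2 + C (w 1) * X + C (w 0) : K[X]) ≠ 0 := fun h6 => hw (by
      have a0 := congrArg (fun f : K[X] => f.coeff 0) h6
      have a1 := congrArg (fun f : K[X] => f.coeff 1) h6
      have a2 := congrArg (fun f : K[X] => f.coeff 2) h6
      simp [coeff_X, coeff_C] at a0 a1 a2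
      ext i
      fin_cases i <;> simp [a0, a1, a2])
    obtain ⟨a, c, h6⟩ := hf.coprime_iff_not_dvd.2 fun h7 => by
      have h8 := natDegree_le_of_dvd h7 h5
      rw [charpoly_natDegree_eq_dim, Fintype.card_fin] at h8
      have h9 : (C (w 2) * X ^ 2 + C (w 1) * X + C (w 0) : K[X]).natDegree ≤ 2 := natDegree_quadratic_le
      omega
    have h7 := congrArg (fun f => aeval y f *ᵥ v) h6
    have h8 : aeval y (C (w 2) * X ^ 2 + C (w 1) * X + C (w 0) : K[X]) *ᵥ v = 0 := by
      rw [← h4, kr_mulVec]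
      simp only [map_add, map_mul, aeval_C, aeval_X, sq, Algebra.algebraMap_eq_smul_one, smul_mul_assoc, Matrix.one_mul,
        add_mulVec, smul_mulVec, one_mulVec]
      abel
    rw [map_add, map_mul, map_mul, aeval_self_charpoly, Matrix.mul_zero, zero_add, map_one, one_mulVec, ← mulVec_mulVec,
      h8, mulVec_zero] at h7
    exact absurd h7.symm hv
  · rw [← Matrix.mul_one h, ← mul_nonsing_inv _ (Ne.isUnit h3), ← Matrix.mul_assoc, h2, Matrix.zero_mul]

theorem exists_cube {E : Type} [Field E] [Finite E] {z : E} (hz : z ≠ 0) {n : ℕ} (hn : Nat.card E = 3 * n + 1)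
    (h : z ^ n = 1) : ∃ c, c ^ 3 = z := by
  obtain ⟨g, hg⟩ := IsCyclic.exists_generator (α := Eˣ)
  obtain ⟨k, hk⟩ := (mem_powers_iff_mem_zpowers (x := g)).2 (hg (Units.mk0 z hz))
  have h1 : orderOf g = 3 * n := by
    rw [orderOf_eq_card_of_forall_mem_zpowers hg, Nat.card_units, hn]
    rfl
  have h2 : 0 < n := by
    have := orderOf_pos g
    omega
  have h3 : 3 * n ∣ k * n := by
    rw [← h1]
    refine orderOf_dvd_of_pow_eq_one (Units.ext ?_)
    change g ^ k = _ at hk
    rw [pow_mul, hk]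
    simpa using h
  obtain ⟨j, rfl⟩ := Nat.dvd_of_mul_dvd_mul_right h2 h3
  refine ⟨((g ^ j : Eˣ) : E), ?_⟩
  have h4 := congrArg Units.val hk
  simp only [Units.val_pow_eq_pow_val, Units.val_mk0] at h4 ⊢
  rw [← h4, ← pow_mul, mul_comm]

theorem exists_root [Finite K] (h3 : 3 ∣ Nat.card K - 1) {y : M3 K} (hf : Irreducible y.charpoly) {ζ : K} (hζ : ζ ≠ 0) :
    ∃ g : M3 K, (∀ A, Commute A y → Commute A g) ∧ g ^ 3 = ζ • (1 : M3 K) := by
  have : Fact (Irreducible y.charpoly) := ⟨hf⟩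
  have : Module.Finite K (AdjoinRoot y.charpoly) := (AdjoinRoot.powerBasis hf.ne_zero).finite
  have : Finite (AdjoinRoot y.charpoly) := Module.finite_of_finite K
  have h1 : Nat.card (AdjoinRoot y.charpoly) = Nat.card K ^ 3 := by
    rw [Module.natCard_eq_pow_finrank (K := K), (AdjoinRoot.powerBasis hf.ne_zero).finrank, AdjoinRoot.powerBasis_dim,
      charpoly_natDegree_eq_dim, Fintype.card_fin]
  obtain ⟨m, hm⟩ := h3
  have h2 : Nat.card K = 3 * m + 1 := by
    have : 0 < Nat.card K := Nat.card_pos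
    omega
  have h4 : ζ ^ (3 * m) = 1 := by
    have := Fintype.ofFinite K
    rw [← hm, Nat.card_eq_fintype_card]
    exact FiniteField.pow_card_sub_one_eq_one ζ hζ
  obtain ⟨c, hc⟩ := exists_cube (z := algebraMap K (AdjoinRoot y.charpoly) ζ) ((_root_.map_ne_zero _).2 hζ)
    (n := 3 * m * (3 * m ^ 2 + 3 * m + 1)) (by rw [h1, h2]; ring) (by rw [← map_pow, pow_mul, h4, one_pow, map_one])
  obtain ⟨r, rfl⟩ := AdjoinRoot.mk_surjective c
  obtain ⟨s, hs⟩ := AdjoinRoot.mk_eq_zero.1 (show AdjoinRoot.mk y.charpoly (r ^ 3 - C ζ) = 0 by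
    rw [map_sub, map_pow, hc, AdjoinRoot.mk_C, AdjoinRoot.algebraMap_eq, sub_self])
  refine ⟨aeval y r, ?_, ?_⟩
  · exact fun A hA => Algebra.commute_of_mem_adjoin_singleton_of_commute (aeval_mem_adjoin_singleton K y) hA
  · have h5 := congrArg (aeval y) hs
    rw [map_mul, aeval_self_charpoly, Matrix.zero_mul, map_sub, map_pow, aeval_C, sub_eq_zero] at h5
    rw [h5, Algebra.algebraMap_eq_smul_one]

theorem det_of_cube {g : M3 K} {ζ : K} (hζ : ∀ a : K, a ^ 3 ≠ ζ) (h : g ^ 3 = ζ • (1 : M3 K)) : det g = ζ := by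
  have h1 : Irreducible (X ^ 3 - C ζ : K[X]) := X_pow_sub_C_irreducible_of_prime Nat.prime_three hζ
  have h2 : (X ^ 3 - C ζ : K[X]).Monic := monic_X_pow_sub_C ζ (by norm_num)
  have h3 := minpoly.eq_of_irreducible_of_monic h1 (x := g)
    (by rw [map_sub, map_pow, aeval_X, aeval_C, h, Algebra.algebraMap_eq_smul_one, sub_self]) h2
  have h4 : g.charpoly = X ^ 3 - C ζ := eq_of_monic_of_dvd_of_natDegree_le h2 (charpoly_monic g)
    (h3 ▸ Matrix.minpoly_dvd_charpoly g) (by rw [charpoly_natDegree_eq_dim, Fintype.card_fin, natDegree_X_pow_sub_C])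
  rw [det_eq_sign_charpoly_coeff, h4]
  simp [pow_succ]

/-- the lower shift -/
def J0 (K : Type) [Field K] : M3 K := !![0, 0, 0; 1, 0, 0; 0, 1, 0]

theorem exists_jordan {N : M3 K} (h3 : N * N * N = 0) (h2 : N * N ≠ 0) : ∃ P : M3 K, det P ≠ 0 ∧ N * P = P * J0 K := by
  obtain ⟨v, hv⟩ : ∃ v, (N * N) *ᵥ v ≠ 0 := by
    by_contra h
    push Not at h
    exact h2 (ext_vec fun w => by rw [h, zero_mulVec])
  have h4 : N * (N * N) = 0 := by rw [← Matrix.mul_assoc, h3]
  refine ⟨kr N v, fun h => ?_, ext_vec fun w => ?_⟩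
  · obtain ⟨w, hw, h1⟩ := exists_mulVec_eq_zero_iff.2 h
    rw [kr_mulVec] at h1
    have a0 := congrArg (fun x => (N * N) *ᵥ x) h1
    simp only [mulVec_add, mulVec_smul, mulVec_mulVec, h3, ← Matrix.mul_assoc, Matrix.zero_mul, zero_mulVec, smul_zero,
      add_zero, mulVec_zero, smul_eq_zero, hv, or_false] at a0
    have a1 := congrArg (fun x => N *ᵥ x) h1
    simp only [mulVec_add, mulVec_smul, mulVec_mulVec, h4, zero_mulVec, smul_zero, a0, zero_smul, zero_add,
      add_zero, mulVec_zero, smul_eq_zero, hv, or_false] at a1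
    simp only [a0, a1, zero_smul, zero_add, smul_eq_zero, hv, or_false] at h1
    exact hw (by ext i; fin_cases i <;> simp [a0, a1, h1])
  · rw [← mulVec_mulVec, ← mulVec_mulVec, kr_mulVec, kr_mulVec]
    simp [J0, mulVec_add, mulVec_smul, h4, Matrix.vecHead, Matrix.vecTail]

theorem comm_J0 {h : M3 K} (hc : h * J0 K = J0 K * h) :
    (h - h 0 0 • (1 : M3 K)) * (h - h 0 0 • 1) * (h - h 0 0 • 1) = 0 ∧ trace h = 3 * h 0 0 := by
  have a := fun i j => congrFun (congrFun hc i) j
  have a00 := a 0 0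
  have a01 := a 0 1
  have a10 := a 1 0
  have a11 := a 1 1
  have a21 := a 2 1
  simp [J0, mul_apply, Fin.sum_univ_three] at a00 a01 a10 a11 a21
  constructor
  · ext i j
    fin_cases i <;> fin_cases j <;> simp [mul_apply, Fin.sum_univ_three, a00, a01, a10, a11, a21]
  · rw [trace_fin_three, a21, a10]
    ring

/-- the field data -/
structure Fd (K : Type) [Field K] where
  U : Prop
  b : K →+* K
  bb : U → ∀ a, b (b a) = a
  ω : K
  ω2 : ω ^ 2 + ω + 1 = 0
  three : (3 : K) ≠ 0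
  bω : U → b ω = ω ^ 2
  ζ : K
  ζ_nc : ∀ a, a ^ 3 ≠ ζ
  bζ : U → b ζ * ζ = 1
  nrm : U → ∀ a, b a = a → a ≠ 0 → ∃ c, b c * c = a

namespace Fd

variable (f : Fd K)

/-- the conjugate transpose -/
def st (A : M3 K) : M3 K := (A.map f.b)ᵀ

theorem st_apply (A : M3 K) (i j : Fin 3) : f.st A i j = f.b (A j i) := rfl

theorem st_mul (A B : M3 K) : f.st (A * B) = f.st B * f.st A := by rw [st, Matrix.map_mul, transpose_mul]; rfl

theorem st_add (A B : M3 K) : f.st (A + B) = f.st A + f.st B := by ext i j; simp [st_apply]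

theorem st_sub (A B : M3 K) : f.st (A - B) = f.st A - f.st B := by ext i j; simp [st_apply]

theorem st_smul (c : K) (A : M3 K) : f.st (c • A) = f.b c • f.st A := by ext i j; simp [st_apply]

theorem st_one : f.st 1 = 1 := by rw [st, Matrix.map_one _ (map_zero _) (map_one _), transpose_one]

theorem st_st (hU : f.U) (A : M3 K) : f.st (f.st A) = A := by ext i j; simp [st_apply, f.bb hU]

theorem tr_st (A : M3 K) : trace (f.st A) = f.b (trace A) := by simp [trace_fin_three, st_apply]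

theorem det_st (A : M3 K) : det (f.st A) = f.b (det A) := by rw [st, det_transpose, RingHom.map_det]; rfl

theorem ω3 : f.ω ^ 3 = 1 := by linear_combination (f.ω - 1) * f.ω2

theorem ω_ne : f.ω ≠ 1 := fun h => f.three (by have := f.ω2; rw [h] at this; linear_combination this)

theorem ζ_ne : f.ζ ≠ 0 := fun h => f.ζ_nc 0 (by rw [h]; simp)

theorem cube {z : K} (h : z ^ 3 = 1) : z = 1 ∨ z = f.ω ∨ z = f.ω ^ 2 := by
  have h1 : (z - 1) * ((z - f.ω) * (z - f.ω ^ 2)) = 0 := by
    linear_combination h + (-z ^ 2 + z * f.ω + 1 - f.ω) * f.ω2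
  simpa only [mul_eq_zero, sub_eq_zero] using h1

/-- the matrix is unitary in the unitary case -/
def Un (A : M3 K) : Prop := f.U → f.st A * A = 1

/-- there is a centralising element of determinant `ζ` -/
def Good (y : M3 K) : Prop := ∃ g : M3 K, g * y = y * g ∧ det g = f.ζ ∧ f.Un g

theorem good_of {y E : M3 K} (h1 : adjugate E = 0) (h2 : trace E ≠ 0) (h3 : E * y = y * E)
    (h4 : f.U → trace E • f.st E = f.b (trace E) • E) : f.Good y := by
  refine ⟨1 + ((f.ζ - 1) / trace E) • E, ?_, ?_, fun hU => ?_⟩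
  · rw [Matrix.add_mul, Matrix.mul_add, Matrix.smul_mul, Matrix.mul_smul, h3, Matrix.one_mul, Matrix.mul_one]
  · rw [det_one_add, h1, det_of_adj h1, trace_zero]
    field_simp
    ring
  · have h5 : E * E = trace E • E := by
      have h6 := adj_eq E
      rw [h1, trace_zero, zero_smul, add_zero] at h6
      exact sub_eq_zero.1 h6.symm
    have h6 : f.b (trace E) ≠ 0 := (_root_.map_ne_zero _).2 h2
    have h7 : f.st E = (f.b (trace E) / trace E) • E := by
      rw [div_eq_inv_mul, mul_smul, ← h4 hU, inv_smul_smul₀ h2]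
    rw [st_add, st_smul, st_one, h7, smul_smul, Matrix.add_mul, Matrix.mul_add, Matrix.mul_add, Matrix.smul_mul,
      Matrix.smul_mul, Matrix.mul_smul, Matrix.mul_smul, h5, Matrix.one_mul, Matrix.one_mul, Matrix.mul_one, smul_smul,
      smul_smul, add_assoc, ← add_smul, ← add_smul, add_eq_left, map_div₀, map_sub, map_one]
    convert zero_smul K E using 2
    field_simp
    linear_combination f.bζ hU

theorem good_simple {y : M3 K} (hy : f.Un y) {r : K} (hr : f.U → f.b r * r = 1) (h1 : det (r • (1 : M3 K) - y) = 0)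
    (h2 : trace (adjugate (r • (1 : M3 K) - y)) ≠ 0) : f.Good y := by
  have a1 := mul_adjugate (r • (1 : M3 K) - y)
  have a2 := adjugate_mul (r • (1 : M3 K) - y)
  have a3 := adj_eq (r • (1 : M3 K) - y)
  have a4 := adjugate_adjugate' (r • (1 : M3 K) - y)
  rw [h1] at a1 a2 a4
  generalize adjugate (r • (1 : M3 K) - y) = E at a1 a2 a3 a4 h2
  rw [zero_smul, Matrix.sub_mul, Matrix.smul_mul, Matrix.one_mul, sub_eq_zero] at a1
  rw [zero_smul, Matrix.mul_sub, Matrix.mul_smul, Matrix.mul_one, sub_eq_zero] at a2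
  refine f.good_of (by simpa using a4) h2 (a2.symm.trans a1) fun hU => ?_
  have a5 : f.st E * (r • (1 : M3 K) - y) = 0 := by
    have a6 := congrArg (fun A => r • (f.st A * y)) a1
    simp only [st_smul, st_mul, Matrix.smul_mul, Matrix.mul_assoc, hy hU, Matrix.mul_one, smul_smul] at a6
    rw [mul_comm, hr hU, one_smul] at a6
    rw [Matrix.mul_sub, Matrix.mul_smul, Matrix.mul_one, a6, sub_self]
  have a6 : f.st E * E = trace E • f.st E := by
    have a7 := congrArg (fun A => f.st E * A) a3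
    simp only [Matrix.mul_add, Matrix.mul_sub (f.st E) (_ * _), ← Matrix.mul_assoc, Matrix.mul_smul, a5, Matrix.zero_mul,
      smul_zero, sub_zero, zero_add, Matrix.mul_one] at a7
    exact a7
  have a7 := congrArg f.st a6
  rw [st_mul, st_smul, f.st_st hU, a6] at a7
  exact a7

theorem good_vec {N : M3 K} (h1 : adjugate N = 0) (h2 : N * N = 0) (i j r s : Fin 3) (h3 : N s j * N i r ≠ 0)
    (h4 : f.U → (fun k => f.b (crossProduct (Nᵀ j) (Pi.single r 1) k)) = -crossProduct (N i) (Pi.single s 1)) (c : K) :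
    f.Good (c • (1 + N)) := by
  have a1 : crossProduct (Nᵀ j) (Pi.single r 1) ᵥ* N = 0 := by
    ext k
    change crossProduct (Nᵀ j) (Pi.single r 1) ⬝ᵥ Nᵀ k = 0
    rw [dotProduct_comm, triple_product_permutation, triple_product_permutation, cross_col h1, dotProduct_zero]
  have a2 : N *ᵥ crossProduct (N i) (Pi.single s 1) = 0 := by
    ext k
    change Nᵀᵀ k ⬝ᵥ crossProduct (Nᵀᵀ i) (Pi.single s 1) = 0
    rw [triple_product_permutation, triple_product_permutation,
      cross_col (by rw [← adjugate_transpose, h1, transpose_zero]), dotProduct_zero]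
  have a3 : trace (vecMulVec (crossProduct (N i) (Pi.single s 1)) (crossProduct (Nᵀ j) (Pi.single r 1))) =
      -(N s j * N i r) := by
    have a4 : N i ⬝ᵥ Nᵀ j = 0 := congrFun (congrFun h2 i) j
    rw [trace_vecMulVec, cross_dot_cross, a4]
    simp [mul_comm]
  refine f.good_of (adj_vecMulVec _ _) (by rw [a3]; exact neg_ne_zero.2 h3) ?_ fun hU => ?_
  · rw [Matrix.mul_smul, Matrix.smul_mul, Matrix.mul_add, Matrix.add_mul, Matrix.mul_one, Matrix.one_mul, vecMulVec_mul,
      mul_vecMulVec, a1, a2]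
    simp
  · have a4 : f.st (vecMulVec (crossProduct (N i) (Pi.single s 1)) (crossProduct (Nᵀ j) (Pi.single r 1))) =
        vecMulVec (crossProduct (N i) (Pi.single s 1)) (crossProduct (Nᵀ j) (Pi.single r 1)) := by
      ext k l
      have a5 := congrFun (h4 hU) k
      have a6 := congrArg f.b (congrFun (h4 hU) l)
      simp only [Pi.neg_apply, map_neg, f.bb hU] at a5 a6
      rw [st_apply, vecMulVec_apply, vecMulVec_apply, map_mul, a5, a6]
      ring
    rw [← tr_st, a4]

theorem good_nil {N : M3 K} (h1 : adjugate N = 0) (h2 : N * N = 0) (hU : f.Un (1 + N)) (c : K) : f.Good (c • (1 + N)) := by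
  by_cases h3 : N = 0
  · refine f.good_of (adj_vecMulVec (Pi.single 0 1) (Pi.single 0 1)) (by simp [trace_vecMulVec]) (by simp [h3]) fun _ => ?_
    have a4 : f.st (vecMulVec (Pi.single 0 1) (Pi.single 0 1)) = vecMulVec (Pi.single 0 1) (Pi.single 0 1) := by
      ext k l
      fin_cases k <;> fin_cases l <;> simp [st_apply, vecMulVec_apply]
    rw [← tr_st, a4]
  obtain ⟨i, j, h4⟩ : ∃ i j, N i j ≠ 0 := by
    by_contra h5
    push Not at h5
    exact h3 (Matrix.ext h5)
  by_cases h : f.U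
  · have h5 : f.st N = -N := by
      have h6 := congrArg (fun A => A * (1 - N)) (hU h)
      have h7 : (1 + N) * (1 - N) = 1 := by
        rw [Matrix.mul_sub, Matrix.mul_one, Matrix.add_mul, h2, Matrix.one_mul, add_zero, add_sub_cancel_right]
      simp only [st_add, st_one, Matrix.mul_assoc, h7, Matrix.one_mul, Matrix.mul_one] at h6
      rw [← add_right_inj 1, h6, sub_eq_add_neg]
    have h6 : ∀ k l, f.b (N k l) = -N l k := fun k l => congrFun (congrFun h5 l) k
    refine f.good_vec h1 h2 j j i i (mul_ne_zero h4 fun h7 => ?_) (fun _ => ?_) c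
    · exact h4 ((_root_.map_eq_zero f.b).1 (by rw [h6, h7, neg_zero]))
    · ext k
      fin_cases i <;> fin_cases k <;> simp [cross_apply, h6]
  · exact f.good_vec h1 h2 i j j i (mul_ne_zero h4 h4) (fun h5 => absurd h5 h) c

theorem st_pow (A : M3 K) (n : ℕ) : f.st (A ^ n) = f.st A ^ n := by
  induction n with
  | zero => simp [st_one]
  | succ n ih => rw [pow_succ, st_mul, ih, pow_succ']

theorem good_irr [Finite K] (h3 : 3 ∣ Nat.card K - 1) {y : M3 K} (hy : f.Un y) (hf : Irreducible y.charpoly) :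
    f.Good y := by
  obtain ⟨g, h0, h2⟩ := exists_root h3 hf f.ζ_ne
  have h1 : g * y = y * g := (h0 y (Commute.refl y)).symm
  refine ⟨g, h1, det_of_cube f.ζ_nc h2, fun hU => ?_⟩
  have a1 : y * f.st y = 1 := mul_eq_one_comm.1 (hy hU)
  have a2 : f.st g * y = y * f.st g := by
    have a3 := congrArg (fun A => y * f.st A * y) h1
    simp only [st_mul, ← Matrix.mul_assoc, a1, Matrix.one_mul] at a3
    rw [a3, Matrix.mul_assoc, hy hU, Matrix.mul_one]
  have a3 : f.st g * g * y = y * (f.st g * g) := by rw [Matrix.mul_assoc, h1, ← Matrix.mul_assoc, a2, Matrix.mul_assoc]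
  have a4 : (f.st g * g) ^ 3 = 1 := by
    rw [(h0 _ a2).mul_pow, ← st_pow, h2, st_smul, st_one, Matrix.smul_mul, Matrix.mul_smul, smul_smul, f.bζ hU, one_smul,
      Matrix.mul_one]
  have a5 : f.st (f.st g * g) = f.st g * g := by rw [st_mul, f.st_st hU]
  generalize f.st g * g = h at a3 a4 a5
  have a6 : (h - (1 : K) • 1) * ((h - f.ω • 1) * (h - f.ω ^ 2 • 1)) = 0 := by
    have a7 : (h - (1 : K) • 1) * ((h - f.ω • 1) * (h - f.ω ^ 2 • 1)) =
        h ^ 3 - (f.ω ^ 2 + f.ω + 1) • (h * h) + (f.ω * (f.ω ^ 2 + f.ω + 1)) • h - f.ω ^ 3 • 1 := by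
      simp only [Matrix.mul_sub, Matrix.sub_mul, Matrix.mul_smul, Matrix.smul_mul, Matrix.mul_one, Matrix.one_mul, pow_succ' h,
        pow_zero]
      module
    rw [a7, a4, f.ω2, f.ω3]
    simp
  have a7 : ∀ z : K, det (h - z • 1) = 0 → h = z • 1 ∧ f.b z = z := fun z hz => by
    have a8 : h = z • 1 := sub_eq_zero.1 (schur hf (by
      rw [Matrix.sub_mul, Matrix.mul_sub, a3, Matrix.smul_mul, Matrix.mul_smul, Matrix.one_mul, Matrix.mul_one]) hz)
    rw [a8, st_smul, st_one] at a5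
    exact ⟨a8, by simpa using congrFun (congrFun a5 0) 0⟩
  have a8 := congrArg det a6
  rw [det_mul, det_mul, det_zero, mul_eq_zero, mul_eq_zero] at a8
  have a9 : f.ω ^ 2 ≠ f.ω := fun e => f.ω_ne (by linear_combination f.ω3 - (f.ω + 1) * e)
  rcases a8 with a8 | a8 | a8
  · rw [(a7 _ a8).1, one_smul]
  · exact absurd ((f.bω hU).symm.trans (a7 _ a8).2) a9
  · have a10 := (a7 _ a8).2
    rw [map_pow, f.bω hU] at a10
    exact absurd (by linear_combination f.ω * f.ω3 - a10) a9

theorem root_cases {e1 e2 l : K} (h : l ^ 3 - e1 * l ^ 2 + e2 * l - 1 = 0) (hb : f.U → f.b e1 = e2) :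
    ∃ r, r ^ 3 - e1 * r ^ 2 + e2 * r - 1 = 0 ∧ (f.U → f.b r * r = 1) ∧ (3 * r ^ 2 - 2 * e1 * r + e2 ≠ 0 ∨
      (3 * r ^ 2 - 2 * e1 * r + e2 = 0 ∧ 3 * r = e1)) := by
  obtain ⟨r, h1, h2⟩ : ∃ r, r ^ 3 - e1 * r ^ 2 + e2 * r - 1 = 0 ∧ (f.U → f.b r * r = 1) := by
    by_cases h1 : f.U → f.b l * l = 1
    · exact ⟨l, h, h1⟩
    push Not at h1
    obtain ⟨hU, h1⟩ := h1
    have h2 := congrArg f.b h
    have h3 := congrArg f.b (hb hU)
    rw [f.bb hU] at h3
    simp only [map_sub, map_add, map_mul, map_pow, map_one, map_zero, hb hU, ← h3] at h2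
    have h4 : l ≠ 0 := by rintro rfl; simp at h
    have h5 : f.b l ≠ 0 := (_root_.map_ne_zero _).2 h4
    refine ⟨f.b l / l, ?_, fun _ => ?_⟩
    · have h6 : (f.b l * l - 1) * (f.b l ^ 3 - e1 * f.b l ^ 2 * l + e2 * f.b l * l ^ 2 - l ^ 3) = 0 := by
        linear_combination (f.b l ^ 3 - f.b l * l) * h + (f.b l * l - l ^ 3) * h2
      have h7 := (mul_eq_zero.1 h6).resolve_left (sub_ne_zero.2 h1)
      field_simp
      linear_combination h7
    · rw [map_div₀, f.bb hU]
      field_simp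
  by_cases h3 : 3 * r ^ 2 - 2 * e1 * r + e2 = 0
  · by_cases h4 : 3 * r = e1
    · exact ⟨r, h1, h2, .inr ⟨h3, h4⟩⟩
    · have h5 : r ^ 2 * (e1 - 2 * r) = 1 := by linear_combination h1 - r * h3
      refine ⟨e1 - 2 * r, ?_, fun hU => ?_, .inl fun h6 => h4 ?_⟩
      · linear_combination h5 + (e1 - 2 * r) * h3
      · have h6 := congrArg f.b h5
        rw [map_mul, map_pow, map_one] at h6
        have h7 := h2 hU
        linear_combination (r ^ 2 * (e1 - 2 * r)) * h6 + h5 -
          (f.b (e1 - 2 * r) * (e1 - 2 * r)) * (f.b r * r + 1) * h7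
      · have h7 : (3 * r - e1) ^ 2 = 0 := by linear_combination h6 - h3
        exact sub_eq_zero.1 (pow_eq_zero_iff two_ne_zero |>.1 h7)
  · exact ⟨r, h1, h2, .inl h3⟩

/-- regular unipotent -/
def Reg (u : M3 K) : Prop := (u - 1) * (u - 1) * (u - 1) = 0 ∧ (u - 1) * (u - 1) ≠ 0

theorem cls [Finite K] (h3 : 3 ∣ Nat.card K - 1) {y : M3 K} (hy : f.Un y) (hd : det y = 1) :
    (∃ r u, r ^ 3 = 1 ∧ (f.U → f.b r * r = 1) ∧ Reg u ∧ y = r • u) ∨ f.Good y := by
  by_cases hf : Irreducible y.charpoly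
  · exact .inr (f.good_irr h3 hy hf)
  rw [(charpoly_monic y).irreducible_iff_roots_eq_zero_of_degree_le_three (by simp) (by simp)] at hf
  obtain ⟨l, hl⟩ := Multiset.exists_mem_of_ne_zero hf
  have h1 := (mem_roots (charpoly_monic y).ne_zero).1 hl
  rw [IsRoot, Matrix.eval_charpoly, scalar_apply, ← smul_one_eq_diagonal, det_sub, hd] at h1
  obtain ⟨r, r1, r2, r3 | ⟨r3, r4⟩⟩ := f.root_cases h1 fun hU => by
    have h2 := mul_adjugate y
    rw [hd, one_smul] at h2
    rw [← tr_st, ← Matrix.mul_one (f.st y), ← h2, ← Matrix.mul_assoc, hy hU, Matrix.one_mul]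
  · exact .inr (f.good_simple hy r2 (by rw [det_sub, hd, r1]) (by rwa [tr_adj_sub]))
  · have r5 : r ^ 3 = 1 := by linear_combination r1 - r * r3 + r ^ 2 * r4
    have a1 := mul_adjugate (r • (1 : M3 K) - y)
    have a2 := adj_eq (r • (1 : M3 K) - y)
    rw [det_sub, hd, r1, zero_smul] at a1
    rw [tr_adj_sub, r3, zero_smul, add_zero, show trace (r • (1 : M3 K) - y) = 0 by
      rw [trace_sub, trace_smul, trace_one, ← r4]; simp [mul_comm], zero_smul, sub_zero] at a2
    have a3 : (-r ^ 2) • (r • (1 : M3 K) - y) = r ^ 2 • y - 1 := by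
      rw [smul_sub, smul_smul, show -r ^ 2 * r = -1 by linear_combination -r5]
      module
    have a4 : y = r • (r ^ 2 • y) := by rw [smul_smul, ← pow_succ', r5, one_smul]
    by_cases a5 : (r ^ 2 • y - 1) * (r ^ 2 • y - 1) = 0
    · right
      rw [a4, ← add_sub_cancel 1 (r ^ 2 • y)]
      refine f.good_nil ?_ a5 (fun hU => ?_) r
      · have a6 := a5
        rw [← a3, Matrix.smul_mul, Matrix.mul_smul, ← a2] at a6
        rw [← a3, adjugate_smul, Fintype.card_fin, sq, mul_smul, a6]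
      · rw [add_sub_cancel, st_smul, Matrix.smul_mul, Matrix.mul_smul, hy hU, smul_smul, map_pow, ← mul_pow, r2 hU]
        simp
    · refine .inl ⟨r, r ^ 2 • y, r5, r2, ⟨?_, a5⟩, a4⟩
      rw [← a3, Matrix.mul_assoc]
      simp only [Matrix.smul_mul, Matrix.mul_smul]
      rw [← a2, a1]
      simp

theorem reg_conj {u u' : M3 K} (h : Reg u) (h' : Reg u') (hu : f.Un u) (hu' : f.Un u') :
    ∃ g : M3 K, det g ≠ 0 ∧ g * u = u' * g ∧ f.Un g := by
  obtain ⟨P, p1, p2⟩ := exists_jordan h.1 h.2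
  obtain ⟨P', p3, p4⟩ := exists_jordan h'.1 h'.2
  have q1 := mul_nonsing_inv P (Ne.isUnit p1)
  have q2 := nonsing_inv_mul P (Ne.isUnit p1)
  have q3 : P⁻¹ * (u - 1) = J0 K * P⁻¹ := by
    calc P⁻¹ * (u - 1) = P⁻¹ * ((u - 1) * P) * P⁻¹ := by rw [Matrix.mul_assoc, Matrix.mul_assoc, q1, Matrix.mul_one]
      _ = _ := by rw [p2, ← Matrix.mul_assoc, q2, Matrix.one_mul]
  have g1 : det (P' * P⁻¹) ≠ 0 := by
    rw [det_mul]
    exact mul_ne_zero p3 (isUnit_nonsing_inv_det P (Ne.isUnit p1)).ne_zero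
  have g2 : P' * P⁻¹ * u = u' * (P' * P⁻¹) := by
    have g3 : P' * P⁻¹ * (u - 1) = (u' - 1) * (P' * P⁻¹) := by
      rw [Matrix.mul_assoc, q3, ← Matrix.mul_assoc, ← p4, Matrix.mul_assoc]
    rwa [Matrix.mul_sub, Matrix.sub_mul, Matrix.mul_one, Matrix.one_mul, sub_left_inj] at g3
  generalize P' * P⁻¹ = g at g1 g2
  by_cases hU : f.U
  swap
  · exact ⟨g, g1, g2, fun h1 => absurd h1 hU⟩
  have a1 : u * f.st u = 1 := mul_eq_one_comm.1 (hu hU)
  have a2 : f.st g * g * u = u * (f.st g * g) := by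
    have a3 : f.st (g * u) * (g * u) = f.st g * g := by
      rw [g2, st_mul, Matrix.mul_assoc, ← Matrix.mul_assoc (f.st u'), hu' hU, Matrix.one_mul]
    conv_rhs => rw [← a3, st_mul, ← Matrix.mul_assoc, ← Matrix.mul_assoc, ← Matrix.mul_assoc, a1, Matrix.one_mul]
  have a3 : f.st (f.st g * g) = f.st g * g := by rw [st_mul, f.st_st hU]
  have a4 : det (f.st g * g) ≠ 0 := by
    rw [det_mul, det_st]
    exact mul_ne_zero ((_root_.map_ne_zero _).2 g1) g1
  generalize hh : f.st g * g = k at a2 a3 a4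
  obtain ⟨b1, b2⟩ := comm_J0 (h := P⁻¹ * k * P) (by
    have b3 : k * (u - 1) = (u - 1) * k := by rw [Matrix.mul_sub, Matrix.sub_mul, a2, Matrix.mul_one, Matrix.one_mul]
    rw [Matrix.mul_assoc, ← p2, ← Matrix.mul_assoc, Matrix.mul_assoc P⁻¹, b3, ← Matrix.mul_assoc, q3]
    simp only [Matrix.mul_assoc])
  generalize (P⁻¹ * k * P) 0 0 = a at b1 b2
  rw [trace_mul_cycle, q1, Matrix.one_mul] at b2
  have b3 : (k - a • 1) * (k - a • 1) * (k - a • 1) = 0 := by
    have b4 : k - a • 1 = P * (P⁻¹ * k * P - a • 1) * P⁻¹ := by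
      rw [Matrix.mul_sub, Matrix.sub_mul, Matrix.mul_smul, Matrix.mul_one, Matrix.smul_mul, q1, ← Matrix.mul_assoc,
        ← Matrix.mul_assoc, q1, Matrix.one_mul, Matrix.mul_assoc, q1, Matrix.mul_one]
    generalize P⁻¹ * k * P - a • 1 = T at b1 b4
    rw [b4]
    calc P * T * P⁻¹ * (P * T * P⁻¹) * (P * T * P⁻¹) = P * (T * (P⁻¹ * P) * T * (P⁻¹ * P) * T) * P⁻¹ := by
          simp only [Matrix.mul_assoc]
      _ = 0 := by rw [q2, Matrix.mul_one, Matrix.mul_one, b1, Matrix.mul_zero, Matrix.zero_mul]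
  have b4 : f.b a = a := by
    have b5 := f.tr_st k
    rw [a3, b2, map_mul, map_ofNat] at b5
    exact (mul_left_cancel₀ f.three b5).symm
  have b5 : a ≠ 0 := by
    rintro rfl
    have b6 := congrArg det b3
    rw [zero_smul, sub_zero, det_mul, det_mul, det_zero] at b6
    exact mul_ne_zero (mul_ne_zero a4 a4) a4 b6
  obtain ⟨c, hc⟩ := f.nrm hU a b4 b5
  obtain ⟨n, n1, n2, n3, n4⟩ : ∃ n : M3 K, k = a • (1 + n) ∧ n * n * n = 0 ∧ f.st n = n ∧ n * u = u * n := by
    refine ⟨a⁻¹ • (k - a • 1), ?_, ?_, ?_, ?_⟩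
    · rw [smul_add, smul_inv_smul₀ b5, add_sub_cancel]
    · simp only [Matrix.smul_mul, Matrix.mul_smul, b3, smul_zero]
    · rw [st_smul, st_sub, st_smul, st_one, a3, map_inv₀, b4]
    · rw [Matrix.smul_mul, Matrix.mul_smul, Matrix.sub_mul, Matrix.mul_sub, a2, Matrix.smul_mul, Matrix.mul_smul,
        Matrix.one_mul, Matrix.mul_one]
  obtain ⟨w, w1, w2⟩ : ∃ w : M3 K, f.st w * w = k ∧ w * u = u * w := by
    refine ⟨c • (1 + (-f.ω) • n + f.ω • (n * n)), ?_, ?_⟩
    · have w3 : n * (n * n) = 0 := by rw [← Matrix.mul_assoc, n2]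
      have w4 : n * n * (n * n) = 0 := by rw [← Matrix.mul_assoc, n2, Matrix.zero_mul]
      rw [st_smul, Matrix.smul_mul, Matrix.mul_smul, smul_smul, hc, n1, st_add, st_add, st_smul, st_smul, st_mul, n3,
        st_one, map_neg, f.bω hU]
      congr 1
      simp only [Matrix.mul_add, Matrix.add_mul, Matrix.mul_smul, Matrix.smul_mul, Matrix.mul_one, Matrix.one_mul, n2, w3,
        w4, smul_zero, add_zero]
      have w5 : (1 : M3 K) + n = 1 + n - (f.ω ^ 2 + f.ω + 1) • n + (f.ω * (f.ω ^ 2 + f.ω + 1)) • (n * n) := by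
        rw [f.ω2]; simp
      rw [w5]
      module
    · have w3 : n * n * u = u * (n * n) := by rw [Matrix.mul_assoc, n4, ← Matrix.mul_assoc, n4, Matrix.mul_assoc]
      simp only [Matrix.mul_add, Matrix.add_mul, Matrix.mul_smul, Matrix.smul_mul, Matrix.mul_one, Matrix.one_mul, n4, w3]
  have w3 : det w ≠ 0 := fun e => a4 (by rw [← w1, det_mul, e, mul_zero])
  have w4 := mul_nonsing_inv w (Ne.isUnit w3)
  have w5 := nonsing_inv_mul w (Ne.isUnit w3)
  refine ⟨g * w⁻¹, ?_, ?_, fun _ => ?_⟩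
  · rw [det_mul]
    exact mul_ne_zero g1 (isUnit_nonsing_inv_det w (Ne.isUnit w3)).ne_zero
  · have w6 : w⁻¹ * u = u * w⁻¹ := by
      rw [← Matrix.mul_one (w⁻¹ * u), ← w4, ← Matrix.mul_assoc, Matrix.mul_assoc w⁻¹, ← w2, ← Matrix.mul_assoc, w5,
        Matrix.one_mul]
    rw [Matrix.mul_assoc, w6, ← Matrix.mul_assoc, g2, Matrix.mul_assoc]
  · rw [st_mul, Matrix.mul_assoc, ← Matrix.mul_assoc (f.st g), hh, ← w1, Matrix.mul_assoc, w4, Matrix.mul_one, ← st_mul, w4,
      st_one]

theorem det_reg {u : M3 K} (h : Reg u) : det u = 1 := by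
  obtain ⟨P, p1, p2⟩ := exists_jordan h.1 h.2
  have h1 : u * P = P * (1 + J0 K) := by
    rw [Matrix.mul_add, ← p2, Matrix.sub_mul, Matrix.mul_one, Matrix.one_mul, add_sub_cancel]
  have h2 := congrArg det h1
  rw [det_mul, det_mul, show det (1 + J0 K) = 1 by simp [J0, det_fin_three], mul_one] at h2
  exact mul_right_cancel₀ p1 (h2.trans (one_mul _).symm)

theorem diag_of_comm {g : M3 K} (h : g * diagonal ![1, f.ω, f.ω ^ 2] = diagonal ![1, f.ω, f.ω ^ 2] * g) :
    g = diagonal fun i => g i i := by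
  have h0 : f.ω ≠ 0 := fun e => by simpa [e] using f.ω2
  have h1 : f.ω - 1 ≠ 0 := sub_ne_zero.2 f.ω_ne
  have h2 : f.ω + 1 ≠ 0 := fun e => one_ne_zero (α := K) (by linear_combination f.ω2 - f.ω * e)
  have h3 : Function.Injective ![1, f.ω, f.ω ^ 2] := by
    have h4 : f.ω ^ 2 ≠ 1 := fun e => mul_ne_zero h1 h2 (by linear_combination e)
    have h5 : f.ω ^ 2 ≠ f.ω := fun e => mul_ne_zero h1 h0 (by linear_combination e)
    intro i j e
    fin_cases i <;> fin_cases j <;> simp [f.ω_ne, f.ω_ne.symm, h4, h4.symm, h5, h5.symm] at e ⊢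
  ext i j
  by_cases e : i = j
  · rw [e, diagonal_apply_eq]
  · have a := congrFun (congrFun h i) j
    rw [mul_diagonal, diagonal_mul, mul_comm] at a
    rw [diagonal_apply_ne _ e]
    exact (mul_eq_mul_right_iff.1 a).resolve_left fun e' => e (h3 e').symm

theorem cx {g : M3 K} {z : K} (h : g * !![0, 1, 0; 0, 0, f.ζ; 1, 0, 0] = !![0, 1, 0; 0, 0, f.ζ; 1, 0, 0] * g)
    (h3 : g ^ 3 = z • 1) : ∃ a : K, ∃ k : ℕ, g = a • !![0, 1, 0; 0, 0, f.ζ; 1, 0, 0] ^ k := by
  have hζ := f.ζ_ne
  obtain ⟨a, b, c, rfl⟩ : ∃ a b c : K, g = !![a, b, c * f.ζ; c * f.ζ, a, b * f.ζ; b, c, a] := by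
    have e := fun i j => congrFun (congrFun h i) j
    have e00 := e 0 0
    have e01 := e 0 1
    have e02 := e 0 2
    have e20 := e 2 0
    have e21 := e 2 1
    have e22 := e 2 2
    have e11 := e 1 1
    simp [mul_apply, Fin.sum_univ_three] at e00 e01 e02 e20 e21 e22 e11
    refine ⟨g 0 0, g 0 1, g 2 1, ?_⟩
    ext i j
    fin_cases i <;> fin_cases j <;> simp [*]
  have e1 := congrFun (congrFun h3 0) 1
  have e2 := congrFun (congrFun h3 2) 1
  simp [pow_succ, mul_apply, Fin.sum_univ_three] at e1 e2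
  have e3 : a * (b ^ 3 - f.ζ * c ^ 3) = 0 := mul_left_cancel₀ f.three (by linear_combination b * e2 - c * e1)
  have e4 : a ^ 2 * b + f.ζ * (b ^ 2 * c + a * c ^ 2) = 0 := mul_left_cancel₀ f.three (by linear_combination e1)
  rcases mul_eq_zero.1 e3 with rfl | e5
  · have e5 : f.ζ * (b ^ 2 * c) = 0 := by linear_combination e4
    rcases mul_eq_zero.1 ((mul_eq_zero.1 e5).resolve_left hζ) with e6 | rfl
    · obtain rfl := pow_eq_zero_iff two_ne_zero |>.1 e6
      exact ⟨c, 2, by ext i j; fin_cases i <;> fin_cases j <;> simp [sq]⟩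
    · exact ⟨b, 1, by ext i j; fin_cases i <;> fin_cases j <;> simp⟩
  · obtain rfl : c = 0 := by
      by_contra e6
      exact f.ζ_nc (b / c) (by field_simp; linear_combination e5)
    obtain rfl : b = 0 := pow_eq_zero_iff (n := 3) (by norm_num) |>.1 (by linear_combination e5)
    exact ⟨a, 0, by ext i j; fin_cases i <;> fin_cases j <;> simp⟩

end Fd

end Cfsg.Agent.KZ.L3
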