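import Cfsg.Agent.KZ.L3.Grp

/-!
# KZ, `L₃^ε(q)` with `3 ∣ q - ε`: the model `Y = GL₃^ε(q)` in abstract form (helper56)

`Md Y μ S`: the diagonal matrices `D t`, the permutation matrix `σ`, the determinant, the field and graph automorphisms `Φ`.
-/

set_option autoImplicit false

namespace Cfsg.Agent.KZ.L3

open Cfsg Subgroup

/-- the model -/
structure Md (Y μ S : Type) [Group Y] [CommGroup μ] [Group S] where
  D : (Fin 3 → μ) →* Y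
  D_inj : Function.Injective D
  σ : Y
  σ3 : σ ^ 3 = 1
  σD : ∀ t, σ * D t = D (fun i => t (i + 1)) * σ
  det : Y →* μ
  det_D : ∀ t, det (D t) = t 0 * t 1 * t 2
  det_σ : det σ = 1
  cen : ∀ z y, D (fun _ => z) * y = y * D (fun _ => z)
  ω : μ
  ζ : μ
  ω3 : ω ^ 3 = 1
  ω_ne : ω ≠ 1
  cube : ∀ z : μ, z ^ 3 = 1 → ∃ j : ℕ, z = ω ^ j
  ζ3 : ∃ k : ℕ, ζ ^ 3 ^ k = 1
  ζ_nc : ∀ z : μ, z ^ 3 ≠ ζ
  ζ_gen : ∀ z : μ, ∃ v : μ, ∃ i : ℕ, z = v ^ 3 * ζ ^ i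
  diag : ∀ g, g * D ![1, ω, ω ^ 2] = D ![1, ω, ω ^ 2] * g → ∃ t, g = D t
  cx : ∀ g z, g * (σ * D ![1, 1, ζ]) = σ * D ![1, 1, ζ] * g → g ^ 3 = D (fun _ => z) →
    ∃ z', ∃ k : ℕ, g = D (fun _ => z') * (σ * D ![1, 1, ζ]) ^ k
  u : Y
  det_u : det u = 1
  cls : ∀ y, det y = 1 → (∃ g z, y = D (fun _ => z) * (g * u * g⁻¹)) ∨ ∃ g, g * y = y * g ∧ det g = ζ
  Φ : Subgroup (MulAut Y)
  comm : ∀ τ ∈ Φ, ∀ τ' ∈ Φ, τ * τ' = τ' * τ
  Φσ : ∀ τ ∈ Φ, τ σ = σ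
  pw : ∀ τ ∈ Φ, ∃ e : ℤ, (∀ t, τ (D t) = D (t ^ e)) ∧ ∀ y, det (τ y) = det y ^ e
  γ : MulAut Y
  γΦ : γ ∈ Φ
  γD : ∀ t, γ (D t) = D t⁻¹
  p : ↥det.ker →* S
  surj : Function.Surjective p
  ker : ∀ y, p y = 1 ↔ ∃ z, (y : Y) = D (fun _ => z)
  perf : commutator S = ⊤
  aut : ∀ H : Subgroup (MulAut S), (∀ (β : MulAut S) (g : Y), ∀ τ ∈ Φ,
    (∀ x x' : ↥det.ker, (x' : Y) = g * τ x * g⁻¹ → β (p x) = p x') → β ∈ H) → H = ⊤

namespace Md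

variable {Y μ S : Type} [Group Y] [CommGroup μ] [Group S] (m : Md Y μ S)

/-- scalars -/
def sc : μ →* Y := m.D.comp (Pi.constMonoidHom (Fin 3) μ)

theorem sc_eq (z : μ) : m.D (fun _ => z) = m.sc z := rfl

theorem sc_comm (z : μ) (y : Y) : Commute (m.sc z) y := m.cen z y

theorem sc_inj : Function.Injective m.sc := fun _ _ h => congrFun (m.D_inj h) 0

theorem det_sc (z : μ) : m.det (m.sc z) = z ^ 3 := by
  rw [← sc_eq, m.det_D, pow_succ, sq]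

/-- the shift -/
def sh (t : Fin 3 → μ) : Fin 3 → μ := fun i => t (i + 1)

/-- the diagonal entries of `d` -/
def d0 : Fin 3 → μ := ![1, m.ω, m.ω ^ 2]

/-- the diagonal entries of `δ` -/
def δ0 : Fin 3 → μ := ![1, 1, m.ζ]

theorem σD' (t : Fin 3 → μ) : m.σ * m.D t = m.D (sh t) * m.σ := m.σD t

theorem σD_pow (k : ℕ) (t : Fin 3 → μ) : m.σ ^ k * m.D t = m.D (sh^[k] t) * m.σ ^ k := by
  induction k with
  | zero => simp
  | succ k ih => rw [pow_succ', mul_assoc, ih, ← mul_assoc, σD', mul_assoc, Function.iterate_succ_apply']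

theorem D_comm (t t' : Fin 3 → μ) : Commute (m.D t) (m.D t') := (Commute.all t t').map m.D

theorem sh_d0 : sh m.d0 = (fun _ => m.ω) * m.d0 := by
  funext i
  have h := m.ω3
  fin_cases i
  · simp [sh, d0]
  · simp [sh, d0, sq]
  · simp [sh, d0, ← pow_succ', h]

theorem σd : m.σ * m.D m.d0 = m.sc m.ω * m.D m.d0 * m.σ := by rw [σD', sh_d0, map_mul]; rfl

theorem σd_pow (k : ℕ) : m.σ ^ k * m.D m.d0 = m.sc (m.ω ^ k) * m.D m.d0 * m.σ ^ k := by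
  induction k with
  | zero => simp
  | succ k ih =>
    rw [pow_succ', mul_assoc, ih, ← mul_assoc, ← mul_assoc, ← (m.sc_comm _ _).eq, mul_assoc (m.sc _), σd, pow_succ m.ω,
      map_mul]
    simp only [mul_assoc]

theorem ω_order : orderOf m.ω = 3 :=
  haveI : Fact (Nat.Prime 3) := ⟨Nat.prime_three⟩
  orderOf_eq_prime m.ω3 m.ω_ne

theorem d0_3 : m.d0 ^ 3 = 1 := by
  funext i
  fin_cases i
  · simp [d0]
  · simp [d0, m.ω3]
  · change (m.ω ^ 2) ^ 3 = 1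
    rw [pow_right_comm, m.ω3, one_pow]

theorem det_d : m.det (m.D m.d0) = 1 := by
  rw [m.det_D]
  simp [d0, ← pow_succ', m.ω3]

theorem det_δ : m.det (m.D m.δ0) = m.ζ := by rw [m.det_D]; simp [δ0]

theorem dvd_of_cube {v : μ} {i : ℤ} (h : v ^ 3 = m.ζ ^ i) : 3 ∣ i := by
  obtain ⟨j, hj | hj | hj⟩ : ∃ j : ℤ, i = 3 * j ∨ i = 3 * j + 1 ∨ i = 3 * j - 1 := ⟨(i + 1) / 3, by omega⟩
  · exact ⟨j, hj⟩
  · refine absurd ?_ (m.ζ_nc (v * (m.ζ ^ j)⁻¹))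
    rw [mul_pow, h, hj, ← zpow_neg, ← zpow_natCast, ← zpow_mul, ← zpow_add]
    convert zpow_one _ using 2
    push_cast; ring
  · refine absurd ?_ (m.ζ_nc (v⁻¹ * m.ζ ^ j))
    rw [mul_pow, inv_pow, h, hj, ← zpow_neg, ← zpow_natCast, ← zpow_mul, ← zpow_add]
    convert zpow_one _ using 2
    push_cast; ring

theorem ζ_ne : m.ζ ≠ 1 := fun h => m.ζ_nc 1 (by rw [h, one_pow])

/-- a diagonal matrix which commutes with `σ` up to a scalar -/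
theorem D_of_σ {t : Fin 3 → μ} {z : μ} (h : m.σ * m.D t = m.sc z * m.D t * m.σ) :
    ∃ j : ℕ, z = m.ω ^ j ∧ m.D t = m.sc (t 0) * m.D m.d0 ^ j := by
  rw [σD', mul_left_inj, ← sc_eq, ← map_mul] at h
  have h1 := m.D_inj h
  have a0 : t 1 = z * t 0 := congrFun h1 0
  have a1 : t 2 = z * t 1 := congrFun h1 1
  have a2 : t 0 = z * t 2 := congrFun h1 2
  obtain ⟨j, hj⟩ := m.cube z (by
    rw [a1, a0, ← mul_assoc, ← mul_assoc] at a2
    rw [pow_succ, sq]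
    exact (right_eq_mul.1 a2))
  refine ⟨j, hj, ?_⟩
  rw [← sc_eq, ← map_pow, ← map_mul]
  congr 1
  funext i
  fin_cases i
  · simp [d0]
  · simp [d0, a0, hj, mul_comm]
  · simp only [d0, Fin.reduceFinMk, Pi.mul_apply, Pi.pow_apply, Matrix.cons_val]
    rw [a1, a0, hj, ← pow_mul, mul_comm 2 j, pow_mul, sq, mul_comm (t 0), mul_assoc]

theorem dvd_of_ω {k : ℕ} (h : m.ω ^ k = 1) : 3 ∣ k := m.ω_order ▸ orderOf_dvd_of_pow_eq_one h

theorem σ_pow_eq {k : ℕ} (h : 3 ∣ k) : m.σ ^ k = 1 := by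
  obtain ⟨j, rfl⟩ := h
  rw [pow_mul, m.σ3, one_pow]

theorem diag_of_comm {g : Y} (h : g * m.D m.d0 = m.D m.d0 * g) : ∃ t, g = m.D t := m.diag g h

theorem mon (g : Y) (z : μ) (h : g * m.D m.d0 = m.sc z * m.D m.d0 * g) : ∃ t, ∃ k : ℕ, g = m.D t * m.σ ^ k := by
  obtain ⟨k, rfl⟩ := m.cube z (by
    have h1 := congrArg m.det h
    rw [map_mul, map_mul, map_mul, det_sc, mul_comm, mul_left_inj, right_eq_mul] at h1
    exact h1)
  obtain ⟨t, ht⟩ := m.diag_of_comm (g := g * (m.σ ^ k)⁻¹) (by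
    rw [mul_assoc, ← mul_assoc (m.D _), eq_mul_inv_iff_mul_eq, ← mul_right_inj (m.sc (m.ω ^ k)), ← mul_assoc (m.sc _) (m.D _),
      ← h, (m.sc_comm _ _).eq, mul_assoc, mul_assoc, mul_assoc, mul_right_inj, inv_mul_eq_iff_eq_mul, σd_pow, mul_assoc,
      (m.sc_comm _ _).eq, mul_assoc])
  exact ⟨t, k, mul_inv_eq_iff_eq_mul.1 ht⟩

theorem sc_of_comm {g : Y} (h : g * m.D m.d0 = m.D m.d0 * g) (h' : g * m.σ = m.σ * g) : ∃ z, g = m.sc z := by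
  obtain ⟨t, rfl⟩ := m.diag_of_comm h
  obtain ⟨j, h1, h2⟩ := m.D_of_σ (t := t) (z := 1) (by rw [map_one, one_mul, h'])
  obtain ⟨i, rfl⟩ := m.dvd_of_ω h1.symm
  exact ⟨t 0, by rw [h2, pow_mul, ← map_pow, d0_3, map_one, one_pow, mul_one]⟩

/-- the group of all automorphisms -/
def Gam : Subgroup (MulAut Y) where
  carrier := {α | ∃ g : Y, ∃ τ ∈ m.Φ, α = MulAut.conj g * τ}
  one_mem' := ⟨1, 1, one_mem _, by simp⟩
  mul_mem' := by
    rintro _ _ ⟨g, τ, h, rfl⟩ ⟨g', τ', h', rfl⟩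
    exact ⟨g * τ g', τ * τ', mul_mem h h', by ext y; simp [mul_assoc]⟩
  inv_mem' := by
    rintro _ ⟨g, τ, h, rfl⟩
    refine ⟨τ⁻¹ g⁻¹, τ⁻¹, inv_mem h, ?_⟩
    rw [inv_eq_iff_mul_eq_one]
    ext y
    simp [mul_assoc]

/-- conjugation -/
def c : Y →* ↥m.Gam := (MulAut.conj : Y →* MulAut Y).codRestrict _ fun g => ⟨g, 1, one_mem _, (mul_one _).symm⟩

theorem c_apply (g y : Y) : (m.c g : MulAut Y) y = g * y * g⁻¹ := rfl

theorem mul_c (α : ↥m.Gam) (g : Y) : α * m.c g = m.c ((α : MulAut Y) g) * α :=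
  Subtype.ext (by ext y; simp [c_apply])

theorem c_sc (z : μ) : m.c (m.sc z) = 1 := Subtype.ext (by
  ext y
  rw [c_apply, (m.sc_comm z y).eq, mul_inv_cancel_right]
  rfl)

theorem c_eq_one {g : Y} : m.c g = 1 ↔ ∃ z, g = m.sc z := by
  refine ⟨fun h => ?_, fun ⟨z, h⟩ => h ▸ m.c_sc z⟩
  have h1 : ∀ y, g * y = y * g := fun y => mul_inv_eq_iff_eq_mul.1 (by rw [← m.c_apply, h]; rfl)
  exact m.sc_of_comm (h1 _) (h1 _)

theorem c_eq {g g' : Y} : m.c g = m.c g' ↔ ∃ z, g = m.sc z * g' := by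
  rw [← mul_inv_eq_one, ← map_inv, ← map_mul, c_eq_one]
  simp only [mul_inv_eq_iff_eq_mul]

theorem comm_c {α : ↥m.Gam} {g : Y} : α * m.c g = m.c g * α ↔ ∃ z, (α : MulAut Y) g = m.sc z * g := by
  rw [mul_c, mul_left_inj, c_eq]

theorem comm_cc {g g' : Y} : m.c g * m.c g' = m.c g' * m.c g ↔ ∃ z, g * g' = m.sc z * g' * g := by
  rw [← map_mul, ← map_mul, c_eq]
  simp only [mul_assoc]

/-- the field and graph automorphisms -/
def Ph : Subgroup ↥m.Gam := m.Φ.subgroupOf m.Gam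

theorem dec (α : ↥m.Gam) : ∃ g, ∃ τ ∈ m.Ph, α = m.c g * τ := by
  obtain ⟨α, g, τ, h, rfl⟩ := α
  exact ⟨g, ⟨τ, 1, τ, h, by simp⟩, h, rfl⟩

theorem Ph_comm {τ τ' : ↥m.Gam} (h : τ ∈ m.Ph) (h' : τ' ∈ m.Ph) : τ * τ' = τ' * τ := Subtype.ext (m.comm _ h _ h')

theorem Ph_fix {τ : ↥m.Gam} (h : τ ∈ m.Ph) : (τ : MulAut Y) m.σ = m.σ := m.Φσ _ h

theorem Ph_pw {τ : ↥m.Gam} (h : τ ∈ m.Ph) : ∃ e : ℤ, (∀ t, (τ : MulAut Y) (m.D t) = m.D (t ^ e)) ∧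
    ∀ y, m.det ((τ : MulAut Y) y) = m.det y ^ e := m.pw _ h

theorem Ph_σ {τ : ↥m.Gam} (h : τ ∈ m.Ph) : τ * m.c m.σ = m.c m.σ * τ := by rw [mul_c, m.Ph_fix h]

theorem exists_e (α : ↥m.Gam) : ∃ e : ℤ, (∀ z, (α : MulAut Y) (m.sc z) = m.sc (z ^ e)) ∧
    ∀ y, m.det ((α : MulAut Y) y) = m.det y ^ e := by
  obtain ⟨g, τ, h, rfl⟩ := m.dec α
  obtain ⟨e, h1, h2⟩ := m.Ph_pw h
  refine ⟨e, fun z => ?_, fun y => ?_⟩
  · change g * (τ : MulAut Y) (m.D fun _ => z) * g⁻¹ = _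
    rw [h1]
    change g * m.sc (z ^ e) * g⁻¹ = _
    rw [← (m.sc_comm _ g).eq, mul_inv_cancel_right]
  · change m.det (g * (τ : MulAut Y) y * g⁻¹) = _
    rw [map_mul, map_mul, map_inv, mul_inv_cancel_comm, h2]

/-- the restriction to the special group -/
def rs (α : ↥m.Gam) : ↥m.det.ker →* ↥m.det.ker :=
  (((α : MulAut Y) : Y →* Y).comp m.det.ker.subtype).codRestrict _ fun y => by
    obtain ⟨e, -, h⟩ := m.exists_e α
    change m.det ((α : MulAut Y) y) = 1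
    rw [h, show m.det y = 1 from y.2, one_zpow]

theorem rs_coe (α : ↥m.Gam) (y : ↥m.det.ker) : (m.rs α y : Y) = (α : MulAut Y) y := rfl

theorem exists_ind (α : ↥m.Gam) : ∃ h : S →* S, ∀ x, h (m.p x) = m.p (m.rs α x) :=
  ⟨m.p.liftOfSurjective m.surj ⟨m.p.comp (m.rs α), fun y hy => by
    obtain ⟨z, hz⟩ := (m.ker y).1 hy
    obtain ⟨e, h, -⟩ := m.exists_e α
    exact (m.ker _).2 ⟨z ^ e, by rw [rs_coe, hz]; exact h z⟩⟩, fun x => MonoidHom.liftOfRightInverse_comp_apply _ _ _ _ _⟩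

/-- the induced endomorphism -/
noncomputable def ind (α : ↥m.Gam) : S →* S := (m.exists_ind α).choose

theorem ind_p (α : ↥m.Gam) (x : ↥m.det.ker) : m.ind α (m.p x) = m.p (m.rs α x) := (m.exists_ind α).choose_spec x

theorem ind_mul (α β : ↥m.Gam) (s : S) : m.ind (α * β) s = m.ind α (m.ind β s) := by
  obtain ⟨x, rfl⟩ := m.surj s
  rw [ind_p, ind_p, ind_p]
  rfl

theorem ind_one (s : S) : m.ind 1 s = s := by
  obtain ⟨x, rfl⟩ := m.surj s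
  rw [ind_p]
  rfl

/-- the induced automorphism -/
noncomputable def ψ0 : ↥m.Gam →* MulAut S where
  toFun α :=
    { toFun := m.ind α
      invFun := m.ind α⁻¹
      left_inv := fun s => by rw [← ind_mul, inv_mul_cancel, ind_one]
      right_inv := fun s => by rw [← ind_mul, mul_inv_cancel, ind_one]
      map_mul' := map_mul _ }
  map_one' := MulEquiv.ext m.ind_one
  map_mul' α β := MulEquiv.ext (m.ind_mul α β)

theorem ψ0_p (α : ↥m.Gam) (x : ↥m.det.ker) : m.ψ0 α (m.p x) = m.p (m.rs α x) := m.ind_p α x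

theorem ψ0_surj : Function.Surjective m.ψ0 := by
  rw [← MonoidHom.range_eq_top]
  refine m.aut _ fun β g τ hτ h => ⟨⟨MulAut.conj g * τ, g, τ, hτ, rfl⟩, MulEquiv.ext fun s => ?_⟩
  obtain ⟨x, rfl⟩ := m.surj s
  rw [ψ0_p]
  exact (h x _ rfl).symm

theorem ψ0_c (x : ↥m.det.ker) : m.ψ0 (m.c x) = MulAut.conj (m.p x) := MulEquiv.ext fun s => by
  obtain ⟨y, rfl⟩ := m.surj s
  rw [ψ0_p, MulAut.conj_apply, ← map_inv, ← map_mul, ← map_mul]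
  rfl

theorem eq_one_of_fix {τ : ↥m.Gam} (hτ : τ ∈ m.Ph) {g : Y}
    (h : ∀ y, m.det y = 1 → g * (τ : MulAut Y) y * g⁻¹ = y) : τ = 1 ∧ m.c g = 1 := by
  obtain ⟨e, h1, -⟩ := m.Ph_pw hτ
  have h2 : m.ω ^ e = m.ω := by
    have h3 := h (m.sc m.ω) (by rw [det_sc, m.ω3])
    rw [← sc_eq, h1] at h3
    change g * m.sc (m.ω ^ e) * g⁻¹ = m.sc m.ω at h3
    rw [← (m.sc_comm _ g).eq, mul_inv_cancel_right] at h3
    exact m.sc_inj h3
  have h3 : m.d0 ^ e = m.d0 := by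
    funext i
    fin_cases i
    · simp [d0]
    · simpa [d0] using h2
    · simp [d0, sq, mul_zpow, h2]
  have h4 := h _ m.det_d
  have h5 := h _ m.det_σ
  rw [h1, h3] at h4
  rw [m.Ph_fix hτ] at h5
  obtain ⟨z, rfl⟩ := m.sc_of_comm (mul_inv_eq_iff_eq_mul.1 h4) (mul_inv_eq_iff_eq_mul.1 h5)
  refine ⟨?_, m.c_sc z⟩
  have h6 : ∀ y, m.det y = 1 → (τ : MulAut Y) y = y := fun y hy => by
    have h7 := h y hy
    rwa [(m.sc_comm z _).eq, mul_inv_cancel_right] at h7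
  have h7 : ∀ a : μ, a ^ e = a := fun a => by
    have h8 := h6 (m.D ![a, a⁻¹, 1]) (by rw [m.det_D]; simp)
    rw [h1] at h8
    simpa using congrFun (m.D_inj h8) 0
  refine Subtype.ext (MulEquiv.ext fun y => ?_)
  have h8 := h6 (y * (m.D ![m.det y, 1, 1])⁻¹) (by rw [map_mul, map_inv, m.det_D]; simp)
  rw [map_mul, map_inv, h1, show ![m.det y, 1, 1] ^ e = ![m.det y, 1, 1] from funext fun i => h7 _, mul_left_inj] at h8
  exact h8

theorem ψ0_inj : Function.Injective m.ψ0 := by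
  rw [injective_iff_map_eq_one]
  intro α hα
  have h1 : ∀ x : ↥m.det.ker, ∃ z, (α : MulAut Y) x = m.sc z * x := fun x => by
    have h2 := m.ψ0_p α x
    rw [hα, MulAut.one_apply, eq_comm, ← mul_inv_eq_one, ← map_inv, ← map_mul, m.ker] at h2
    obtain ⟨z, hz⟩ := h2
    exact ⟨z, mul_inv_eq_iff_eq_mul.1 hz⟩
  let E : Subgroup ↥m.det.ker := MonoidHom.eqLocus (m.rs α) (MonoidHom.id _)
  have hE : ∀ a b : ↥m.det.ker, a * b * a⁻¹ * b⁻¹ ∈ E := fun a b => Subtype.ext (by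
    obtain ⟨z, hz⟩ := h1 a
    obtain ⟨w, hw⟩ := h1 b
    change (α : MulAut Y) (a * b * (a : Y)⁻¹ * (b : Y)⁻¹) = a * b * (a : Y)⁻¹ * (b : Y)⁻¹
    rw [map_mul, map_mul, map_mul, map_inv, map_inv, hz, hw]
    calc m.sc z * a * (m.sc w * b) * (m.sc z * a)⁻¹ * (m.sc w * b)⁻¹
        = m.sc z * (a * (m.sc w * (b * (a : Y)⁻¹ * (m.sc z)⁻¹ * (b : Y)⁻¹) * (m.sc w)⁻¹)) := by group
      _ = m.sc z * (a * b * (a : Y)⁻¹) * (m.sc z)⁻¹ * (b : Y)⁻¹ := by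
        rw [(m.sc_comm w _).eq, mul_inv_cancel_right]; group
      _ = _ := by rw [(m.sc_comm z _).eq, mul_inv_cancel_right])
  have h2 : commutator ↥m.det.ker ≤ E := by
    rw [commutator_def, commutator_le]
    exact fun a _ b _ => hE a b
  have hω : (⟨m.sc m.ω, by rw [MonoidHom.mem_ker, det_sc, m.ω3]⟩ : ↥m.det.ker) ∈ E := by
    convert hE ⟨m.σ, m.det_σ⟩ ⟨m.D m.d0, m.det_d⟩ using 1
    refine Subtype.ext ?_
    change m.sc m.ω = m.σ * m.D m.d0 * m.σ⁻¹ * (m.D m.d0)⁻¹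
    rw [σd]
    group
  have h3 : ∀ x : ↥m.det.ker, x ∈ E := fun x => by
    have h4 : m.p x ∈ (commutator ↥m.det.ker).map m.p := by
      rw [commutator_def, map_commutator, ← MonoidHom.range_eq_map, MonoidHom.range_eq_top.2 m.surj, ← commutator_def,
        m.perf]
      trivial
    obtain ⟨x', h5, h6⟩ := h4
    rw [eq_comm, ← mul_inv_eq_one, ← map_inv, ← map_mul, m.ker] at h6
    obtain ⟨z, hz⟩ := h6
    obtain ⟨j, rfl⟩ := m.cube z (by rw [← m.det_sc, ← sc_eq, ← hz]; exact (x * x'⁻¹).2)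
    have h7 : x * x'⁻¹ ∈ E := by
      convert pow_mem hω j using 1
      exact Subtype.ext (hz.trans (map_pow m.sc _ _))
    exact (E.mul_mem_cancel_right (inv_mem (h2 h5))).1 h7
  obtain ⟨g, τ, hτ, rfl⟩ := m.dec α
  obtain ⟨h4, h5⟩ := m.eq_one_of_fix hτ (g := g) fun y hy => congrArg Subtype.val (h3 ⟨y, hy⟩)
  rw [h4, h5, mul_one]

theorem eq_one_of_c {τ : ↥m.Gam} (hτ : τ ∈ m.Ph) {g : Y} (h : τ = m.c g) : τ = 1 :=
  (m.eq_one_of_fix hτ (g := g⁻¹) fun y _ => by rw [h, c_apply]; group).1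

/-- the inner automorphisms -/
def In : Subgroup ↥m.Gam := m.det.ker.map m.c

theorem c_mem_In {g : Y} : m.c g ∈ m.In ↔ ∃ v, m.det g = v ^ 3 := by
  constructor
  · rintro ⟨x, hx, h⟩
    obtain ⟨z, rfl⟩ := m.c_eq.1 h.symm
    exact ⟨z, by rw [map_mul, det_sc, show m.det x = 1 from hx, mul_one]⟩
  · rintro ⟨v, hv⟩
    refine ⟨(m.sc v)⁻¹ * g, ?_, by rw [map_mul, map_inv, c_sc, inv_one, one_mul]⟩
    change m.det _ = 1
    rw [map_mul, map_inv, det_sc, hv, inv_mul_cancel]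

theorem mem_In {β : ↥m.Gam} : β ∈ m.In ↔ ∃ s, m.ψ0 β = MulAut.conj s := by
  constructor
  · rintro ⟨x, hx, rfl⟩
    exact ⟨_, m.ψ0_c ⟨x, hx⟩⟩
  · rintro ⟨s, hs⟩
    obtain ⟨x, rfl⟩ := m.surj s
    exact ⟨x, x.2, m.ψ0_inj ((m.ψ0_c x).trans hs.symm)⟩

include m in
theorem conj_inj : Function.Injective (MulAut.conj : S →* MulAut S) := by
  rw [injective_iff_map_eq_one]
  intro s hs
  obtain ⟨x, rfl⟩ := m.surj s
  exact (m.ker x).2 (m.c_eq_one.1 (m.ψ0_inj (by rw [ψ0_c, hs, map_one])))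

end Md

end Cfsg.Agent.KZ.L3
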